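import Cfsg.Agent.Sz.Part

/-! Binary actions (helper2): `Bin G Ω`; extension of pairwise realised maps (`Bin.ext`), the triple and quadruple
tests (`Bin.tri`, `Bin.quad`), the criterion `bin_of_tri`, and the fixed point lemma for commuting elements of
prime order with the largest number of fixed points (`Bin.fix`, `Bin.invol`). -/

set_option autoImplicit false
set_option linter.dupNamespace false

namespace Cfsg.Agent.Bin

open Cfsg.Agent.Sz MulAction

/-- The action of `G` on `Ω` is binary. -/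
def Bin (G Ω : Type*) [Group G] [MulAction G Ω] : Prop :=
  ∀ (n : ℕ) (I J : Fin n → Ω), 2 ≤ n → (∀ i j : Fin n, i ≠ j → ∃ g : G, g • I i = J i ∧ g • I j = J j) →
    ∃ g : G, ∀ i, g • I i = J i

variable {G Ω : Type*} [Group G] [MulAction G Ω] {H : Subgroup G}

theorem Bin.fin (h : Bin G Ω) {ι : Type*} [Finite ι] (I J : ι → Ω)
    (hp : ∀ i j, ∃ g : G, g • I i = J i ∧ g • I j = J j) : ∃ g : G, ∀ i, g • I i = J i := by
  rcases isEmpty_or_nonempty ι with h0 | h0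
  · exact ⟨1, fun i => isEmptyElim i⟩
  let e := (Finite.equivFin (ι × Bool)).symm
  obtain ⟨g, hg⟩ := h _ (fun i => I (e i).1) (fun i => J (e i).1) (by
    have := Nat.card_pos (α := ι)
    simp only [Nat.card_prod, Nat.card_eq_fintype_card, Fintype.card_bool]; omega) fun i j _ => hp _ _
  exact ⟨g, fun i => by simpa using hg (e.symm (i, true))⟩

theorem Bin.ext [Finite Ω] (h : Bin G Ω) (Λ : Set Ω) (τ : Ω → Ω)
    (hp : ∀ a ∈ Λ, ∀ b ∈ Λ, ∃ g : G, g • a = τ a ∧ g • b = τ b) : ∃ g : G, ∀ a ∈ Λ, g • a = τ a := by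
  obtain ⟨g, hg⟩ := h.fin (fun a : Λ => a.1) (fun a => τ a) fun a b => hp _ a.2 _ b.2
  exact ⟨g, fun a ha => hg ⟨a, ha⟩⟩

theorem smul_mk_iff {g x y : G} : g • (x : G ⧸ H) = y ↔ y⁻¹ * g * x ∈ H := by
  rw [MulAction.Quotient.smul_coe, smul_eq_mul, eq_comm, QuotientGroup.eq, mul_assoc]

theorem fix_mk_iff {g x : G} : g • (x : G ⧸ H) = x ↔ g ∈ cj x H := by rw [smul_mk_iff, mem_cj]

theorem Bin.quad (h : Bin G (G ⧸ H)) {w x y z a b : G} (aw : a ∈ cj w H) (bw : b ∈ cj w H) (ha : a ∈ cj x H)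
    (hb : b ∈ cj y H) (hc : b⁻¹ * a ∈ cj z H) : ∃ g, g ∈ cj w H ∧ g ∈ cj x H ∧ g ∈ cj y H ∧ g⁻¹ * a ∈ cj z H := by
  rw [← fix_mk_iff] at aw bw ha hb hc
  rw [mul_smul, inv_smul_eq_iff] at hc
  obtain ⟨g, hg⟩ := h.fin ![(w : G ⧸ H), x, y, z] ![(w : G ⧸ H), x, y, a • (z : G ⧸ H)] fun i j => by
    fin_cases i <;> fin_cases j <;>
      first | exact ⟨1, one_smul _ _, one_smul _ _⟩ | (refine ⟨a, ?_, ?_⟩ <;> first | assumption | rfl) |
        (refine ⟨b, ?_, ?_⟩ <;> first | assumption | exact hc.symm)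
  refine ⟨g, fix_mk_iff.1 (hg 0), fix_mk_iff.1 (hg 1), fix_mk_iff.1 (hg 2), fix_mk_iff.1 ?_⟩
  rw [mul_smul, inv_smul_eq_iff]; exact (hg 3).symm

theorem Bin.tri (h : Bin G (G ⧸ H)) {x y z a b : G} (ha : a ∈ cj x H)
    (hb : b ∈ cj y H) (hc : b⁻¹ * a ∈ cj z H) : ∃ g, g ∈ cj x H ∧ g ∈ cj y H ∧ g⁻¹ * a ∈ cj z H := by
  rw [← fix_mk_iff] at ha hb hc
  rw [mul_smul, inv_smul_eq_iff] at hc
  obtain ⟨g, hg⟩ := h.fin ![(x : G ⧸ H), y, z] ![(x : G ⧸ H), y, a • (z : G ⧸ H)] fun i j => by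
    fin_cases i <;> fin_cases j <;>
      first | exact ⟨1, one_smul _ _, one_smul _ _⟩ | (refine ⟨a, ?_, ?_⟩ <;> first | assumption | rfl) |
        (refine ⟨b, ?_, ?_⟩ <;> first | assumption | exact hc.symm)
  refine ⟨g, fix_mk_iff.1 (hg 0), fix_mk_iff.1 (hg 1), fix_mk_iff.1 ?_⟩
  rw [mul_smul, inv_smul_eq_iff]; exact (hg 2).symm

theorem bin_of_tri (hT : ∀ x y z a b : G, a ∈ cj x H → b ∈ cj y H → b⁻¹ * a ∈ cj z H → cj x H ≠ cj y H →
    a ∈ cj z H) : Bin G (G ⧸ H) := by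
  intro n I J hn hp
  have hI : ∀ g i, g • I i = I i ↔ g ∈ cj (I i).out H := fun g i => by rw [← fix_mk_iff, QuotientGroup.out_eq']
  have key : ∀ {g g' : G} {i}, g • I i = J i → (g' • I i = J i ↔ g⁻¹ * g' ∈ cj (I i).out H) := fun {g g' i} e => by
    rw [← hI, mul_smul, inv_smul_eq_iff, e]
  by_cases hc : ∀ i j, cj (I i).out H = cj (I j).out H
  · obtain ⟨g, h0, -⟩ := hp ⟨0, by omega⟩ ⟨1, by omega⟩ (by simp)
    refine ⟨g, fun k => ?_⟩
    by_cases hk : ⟨0, by omega⟩ = k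
    · exact hk ▸ h0
    · obtain ⟨g', h1, h2⟩ := hp _ _ hk
      rw [key h2, hc k ⟨0, by omega⟩, ← key h1]; exact h0
  · push Not at hc
    obtain ⟨i, j, hij⟩ := hc
    obtain ⟨g, gi, gj⟩ := hp i j (by rintro rfl; exact hij rfl)
    refine ⟨g, fun k => ?_⟩
    by_cases hi : i = k
    · exact hi ▸ gi
    by_cases hj : j = k
    · exact hj ▸ gj
    obtain ⟨a, ai, ak⟩ := hp i k hi
    obtain ⟨b, bj, bk⟩ := hp j k hj
    have := hT _ _ _ _ _ ((key gi).1 ai) ((key gj).1 bj) (by simpa using (key bk).1 ak) hij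
    rw [key ak]
    simpa using (cj _ H).inv_mem this

theorem bin_bot : Bin G (G ⧸ (⊥ : Subgroup G)) :=
  bin_of_tri fun x y z a b ha _ _ _ => by simpa only [cj_bot] using ha

/-- `H` is elementary abelian and commuting involutions of two conjugates force these to be equal. -/
theorem bin_of_ti (h2 : ∀ a ∈ H, a * a = 1)
    (hc : ∀ x y, ∀ a ∈ cj x H, ∀ b ∈ cj y H, a ≠ 1 → b ≠ 1 → a * b = b * a → cj x H = cj y H) :
    Bin G (G ⧸ H) := by
  have sq : ∀ x, ∀ a ∈ cj x H, a * a = 1 := fun x a ha => by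
    have := h2 _ (mem_cj.1 ha)
    rwa [show x⁻¹ * a * x * (x⁻¹ * a * x) = x⁻¹ * (a * a) * x⁻¹⁻¹ by group, conj_eq_one_iff] at this
  refine bin_of_tri fun x y z a b ha hb hz hne => ?_
  by_cases h1 : a = 1
  · rw [h1]; exact one_mem _
  by_cases h3 : b = 1
  · simpa [h3] using hz
  refine absurd (hc x y a ha b hb h1 h3 ?_) hne
  have e := sq z _ hz
  rw [inv_eq_of_mul_eq_one_right (sq y b hb)] at e
  calc a * b = (b * a * (b * a))⁻¹ * (a * b) := by rw [e]; group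
    _ = a⁻¹ * b⁻¹ * (a * a)⁻¹ * (a * b⁻¹ * a) * b := by group
    _ = b * a := by
      rw [sq x a ha, inv_eq_of_mul_eq_one_right (sq y b hb), inv_eq_of_mul_eq_one_right (sq x a ha)]
      calc a * b * 1⁻¹ * (a * b * a) * b = a * (b * a * (b * a)) * b := by group
        _ = a * b := by rw [e]; group
        _ = b * a := by
          rw [← mul_inv_eq_one, mul_inv_rev, inv_eq_of_mul_eq_one_right (sq y b hb),
            inv_eq_of_mul_eq_one_right (sq x a ha)]
          calc a * b * (a * b) = a * (b * a * (b * a)) * a⁻¹ := by group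
            _ = 1 := by rw [e]; group

theorem Bin.fix [Finite G] [Finite Ω] (h : Bin G Ω) {p : ℕ} (hp : p.Prime) {s t : G} (hs : s ^ p = 1)
    (hc : s * t = t * s) (h1 : ∀ x : G, orderOf x = p → (fixedBy Ω x).ncard ≤ (fixedBy Ω s).ncard)
    (h2 : (fixedBy Ω t).ncard = (fixedBy Ω s).ncard) (h3 : (fixedBy Ω (t⁻¹ * s)).ncard = (fixedBy Ω s).ncard) :
    fixedBy Ω s = fixedBy Ω t := by
  classical
  have ts : ∀ a ∈ fixedBy Ω (t⁻¹ * s), s • a = t • a := fun a ha => by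
    rwa [mem_fixedBy, mul_smul, inv_smul_eq_iff] at ha
  obtain ⟨x, hx⟩ := h.ext (fixedBy Ω s ∪ fixedBy Ω t ∪ fixedBy Ω (t⁻¹ * s))
    (fun a => if a ∈ fixedBy Ω s ∪ fixedBy Ω t then a else s • a) fun a ha b hb => by
      split_ifs with a1 b1 b1
      · exact ⟨1, by simp⟩
      · rcases a1 with a1 | a1
        exacts [⟨s, a1, rfl⟩, ⟨t, a1, (ts b (hb.resolve_left b1)).symm⟩]
      · rcases b1 with b1 | b1
        exacts [⟨s, rfl, b1⟩, ⟨t, (ts a (ha.resolve_left a1)).symm, b1⟩]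
      · exact ⟨s, rfl, rfl⟩
  by_cases hb : fixedBy Ω (t⁻¹ * s) ⊆ fixedBy Ω s
  · have e := Set.eq_of_subset_of_ncard_le hb h3.ge
    exact Set.eq_of_subset_of_ncard_le (fun a ha => (ts a (e ▸ ha)).symm.trans ha) h2.le
  obtain ⟨b, b1, b2⟩ := Set.not_subset.1 hb
  have hk : ∀ k : ℕ, s ^ k • b ∈ fixedBy Ω (t⁻¹ * s) ∧ s ^ k • b ∉ fixedBy Ω s := fun k => by
    have c1 : Commute (t⁻¹ * s) (s ^ k) := ((Commute.inv_left_iff.2 hc.symm).mul_left (Commute.refl s)).pow_right k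
    have c2 : Commute s (s ^ k) := (Commute.refl s).pow_right k
    rw [mem_fixedBy, mem_fixedBy, ← mul_smul, c1.eq, mul_smul, b1, ← mul_smul, c2.eq, mul_smul]
    exact ⟨rfl, fun e => b2 (smul_left_cancel _ e)⟩
  have hk' : ∀ k : ℕ, x ^ k • b = s ^ k • b := fun k => by
    induction k with
    | zero => simp
    | succ k ih =>
      rw [pow_succ', mul_smul, ih, hx _ (.inr (hk k).1), if_neg, pow_succ', mul_smul]
      rintro (e | e)
      exacts [(hk k).2 e, (hk k).2 ((ts _ (hk k).1).trans e)]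
  have hd : p ∣ orderOf x := by
    by_contra hn
    have e := hk' (orderOf x)
    rw [pow_orderOf_eq_one, one_smul] at e
    obtain ⟨k, -, hk2⟩ := Nat.exists_mul_mod_eq_one_of_coprime ((Nat.coprime_primes_iff_not_dvd' hp hn)) hp.one_lt
    have : (s ^ orderOf x) ^ k • b = b := (stabilizer G b).pow_mem e.symm k
    rw [← pow_mul, ← Nat.div_add_mod (orderOf x * k) p, pow_add, pow_mul, hs, one_pow, one_mul, hk2, pow_one] at this
    exact b2 this
  have hsub : fixedBy Ω s ∪ fixedBy Ω t ⊆ fixedBy Ω (x ^ (orderOf x / p)) := fun a ha =>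
    (stabilizer G a).pow_mem (show x • a = a by rw [hx a (.inl ha), if_pos ha]) _
  have e := Set.eq_of_subset_of_ncard_le (Set.subset_union_left (s := fixedBy Ω s) (t := fixedBy Ω t))
    ((Set.ncard_le_ncard hsub).trans (h1 _ (orderOf_pow_orderOf_div (orderOf_pos x).ne' hd)))
  exact (Set.eq_of_subset_of_ncard_le (e ▸ Set.subset_union_right) h2.ge).symm
where Nat.coprime_primes_iff_not_dvd' {p n : ℕ} (hp : p.Prime) (h : ¬ p ∣ n) : Nat.Coprime n p :=
  ((Nat.Prime.coprime_iff_not_dvd hp).2 h).symm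

theorem ncard_fixedBy_conj {s t : G} (h : IsConj s t) : (fixedBy Ω s).ncard = (fixedBy Ω t).ncard := by
  obtain ⟨c, rfl⟩ := isConj_iff.1 h
  rw [← smul_fixedBy, Set.ncard_smul_set]

/-- With one class of involutions, a point stabiliser of a binary action is closed under commuting involutions. -/
theorem Bin.invol [Finite G] (h : Bin G (G ⧸ H)) (hone : ∀ s t : G, orderOf s = 2 → orderOf t = 2 → IsConj s t)
    {s t : G} (hs : s ∈ H) (s1 : s ≠ 1) (s2 : s * s = 1) (t2 : t * t = 1) (hc : s * t = t * s) : t ∈ H := by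
  have : Fact (Nat.Prime 2) := ⟨Nat.prime_two⟩
  by_cases t1 : t = 1
  · rw [t1]; exact one_mem _
  by_cases e : t = s
  · rwa [e]
  have os : orderOf s = 2 := orderOf_eq_prime (by rwa [sq]) s1
  have := h.fix Nat.prime_two (s := s) (t := t) (by rwa [sq]) hc (fun x hx => (ncard_fixedBy_conj (hone _ _ hx os)).le)
    (ncard_fixedBy_conj (hone _ _ (orderOf_eq_prime (by rwa [sq]) t1) os))
    (ncard_fixedBy_conj (hone _ _ (orderOf_eq_prime (by
      rw [inv_eq_of_mul_eq_one_right t2, sq, mul_assoc, ← mul_assoc s, hc, mul_assoc, s2, mul_one, t2])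
      fun e' => e (inv_mul_eq_one.1 e')) os))
  have h1 : ((1 : G) : G ⧸ H) ∈ fixedBy (G ⧸ H) s := fix_mk_iff.2 (by rwa [cj_one])
  rw [this] at h1
  simpa only [cj_one] using fix_mk_iff.1 h1

/-- Conjugate subgroups give the same action. -/
theorem Bin.cj (h : Bin G (G ⧸ H)) (c : G) : Bin G (G ⧸ cj c H) := by
  intro n I J hn hp
  have key : ∀ (g : G) (a b : G ⧸ Sz.cj c H), g • a = b ↔ g • ((a.out * c : G) : G ⧸ H) = (b.out * c : G) := by
    intro g a b
    rw [smul_mk_iff, ← QuotientGroup.out_eq' a, ← QuotientGroup.out_eq' b, smul_mk_iff, mem_cj,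
      QuotientGroup.out_eq', QuotientGroup.out_eq']
    constructor <;> intro e <;> convert e using 1 <;> group
  simp only [key] at hp ⊢
  exact h n _ _ hn hp

end Cfsg.Agent.Bin
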