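import Cfsg.Agent.Bin.SE
import Cfsg.Agent.AB.PSL2
import Cfsg.Agent.Classical.SL2Prod
import Cfsg.Agent.Classical.DicksonSL

/-! Binary actions of `SL₂(q)` and `PSL₂(q)` (helper2): the witnesses `tor`, `unip_odd`, `borel`, the cases
`sl_even`, `psl_even`, `psl_odd`, the binary actions `bin_U`, `bin_three`, and the classification `psl_iff`. -/

set_option autoImplicit false

namespace Cfsg.Agent.Bin

open Cfsg.Agent.Sz Cfsg.Agent.Classical MulAction Subgroup Matrix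
open scoped MatrixGroups

variable {F : Type*} [Field F] {L : Subgroup SL(2, F)}

theorem tor [Finite F] (h : Bin SL(2, F) (SL(2, F) ⧸ L)) (hm : -1 ∈ L) {x y : SL(2, F)} (hx : x ∈ L)
    (hd : disc x.1 ≠ 0) (hL : ∀ g ∈ L, g * x = x * g) (h1 : y.1.trace = x.1.trace)
    (h2 : (y * x).1.trace = x.1.trace ∨ (y * x).1.trace = -x.1.trace) : x * y = y * x := by
  by_contra hn
  obtain ⟨c, hc⟩ := sl_isConj_of_trace hd (h1.symm.trans (sl_trace_inv y).symm)
  obtain ⟨d, e, he, hd'⟩ : ∃ d, ∃ e : SL(2, F), (e = 1 ∨ e = -1) ∧ d * x * d⁻¹ = e * (y * x) := by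
    rcases h2 with h2 | h2
    · obtain ⟨d, hd'⟩ := sl_isConj_of_trace hd h2.symm
      exact ⟨d, 1, .inl rfl, by rwa [one_mul]⟩
    · obtain ⟨d, hd'⟩ := sl_isConj_of_trace (h := -(y * x)) hd (by rw [sl_neg_coe, trace_neg, h2, neg_neg])
      exact ⟨d, -1, .inr rfl, by rwa [neg_one_mul]⟩
  have cc : ∀ c g, g ∈ cj c L → g * (c * x * c⁻¹) = c * x * c⁻¹ * g := fun c g hg => by
    calc g * (c * x * c⁻¹) = c * (c⁻¹ * g * c * x) * c⁻¹ := by group
      _ = _ := by rw [hL _ (mem_cj.1 hg)]; group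
  obtain ⟨g, g1, g2, g3⟩ := h.tri (x := 1) (y := c) (z := d) (a := x) (b := y⁻¹) (by rwa [cj_one])
    (hc ▸ conj_mem_cj.2 hx) (by
      rcases he with rfl | rfl
      · rw [inv_inv, ← one_mul (y * x), ← hd']; exact conj_mem_cj.2 hx
      · rw [inv_inv, ← neg_neg (y * x), ← neg_one_mul (y * x), ← hd', ← mul_neg_one]
        exact mul_mem (conj_mem_cj.2 hx) (mem_cj.2 (by simpa using hm)))
  rw [cj_one] at g1
  have e1 := cc c g g2
  rw [hc] at e1
  have e2 : g * y = y * g := (Commute.inv_right_iff.1 e1 :)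
  have e3 := cc d _ g3
  rw [hd'] at e3
  have := sl_isScal_iff.1 (m2_isScal_of_commute (x := x.1) (y := y.1) (h := g.1) (fun e => hn (Subtype.ext e))
    (congrArg Subtype.val (hL g g1)) (congrArg Subtype.val e2))
  apply hn
  rcases this with rfl | rfl <;> rcases he with rfl | rfl <;> simpa [← mul_assoc] using e3

theorem fix_of_cj (hB : L ≤ stabilizer SL(2, F) (inf : P1 F)) {c g : SL(2, F)} {p : P1 F} (hg : g ∈ cj c L)
    (hp : c • inf = p) : g • p = p := by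
  have := cj_le_cj.2 hB hg
  rwa [cj_stabilizer, hp] at this

theorem sl_inf_pt (g : SL(2, F)) (y : F) : g • (inf : P1 F) = pt y ↔ g.1 0 0 = y * g.1 1 0 := by
  rw [sl_smul_eq, gl_smul_inf_eq_pt]; rfl

theorem sl_pt_pt (g : SL(2, F)) (x y : F) :
    g • pt x = pt y ↔ g.1 0 0 * x + g.1 0 1 = y * (g.1 1 0 * x + g.1 1 1) := by
  rw [sl_smul_eq, gl_smul_pt_eq_pt]; rfl

theorem unip_odd (h2 : (2 : F) ≠ 0) (h : Bin SL(2, F) (SL(2, F) ⧸ L)) (hm : -1 ∈ L)
    (hB : L ≤ stabilizer SL(2, F) (inf : P1 F)) {b : F} (hb : b ≠ 0) (hu : uSL b ∈ L) : ∃ g ∈ L, g * g = -1 := by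
  have hu' : uSL (-b) ∈ L := uSL_inv b ▸ inv_mem hu
  obtain ⟨g, g1, g2, g3⟩ := h.tri (x := 1) (y := wSL * dSL (Units.mk0 (2 / b) (div_ne_zero h2 hb)))
    (z := lSL (-2 / b)) (a := uSL b) (b := lSL (4 / b)) (by rwa [cj_one]) (by
      rw [← cj_cj]
      convert conj_mem_cj.2 (conj_mem_cj.2 hu') using 1
      rw [dSL_conj_uSL, wSL_conj_uSL, Units.val_mk0]
      congr 1; field_simp; norm_num) (by
      rw [mem_cj]
      convert mul_mem hm hu' using 1
      rw [lSL_inv, lSL_inv, neg_one_mul]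
      ext i j
      fin_cases i <;> fin_cases j <;> simp [mul_apply, Fin.sum_univ_two] <;> field_simp <;> norm_num)
  rw [cj_one] at g1
  have e1 := (sl_smul_inf_eq_inf g).1 (hB g1)
  have e2 := (sl_smul_pt_zero g).1 (fix_of_cj hB g2 (by simp [sl_inf_pt, mul_apply]))
  have e3 := fix_of_cj hB g3 (p := pt (-b / 2)) (by simp [sl_inf_pt]; field_simp)
  rw [mul_smul, inv_smul_eq_iff, show uSL b • pt (-b / 2) = pt (b / 2) by simp [sl_pt_pt]; field_simp; ring, eq_comm,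
    sl_pt_pt, e1, e2] at e3
  refine ⟨g, g1, sl_mul_self_eq_neg_one_of_trace ?_⟩
  rw [trace_fin_two]
  apply mul_left_cancel₀ (div_ne_zero hb h2)
  linear_combination -e3

theorem borel (h : Bin SL(2, F) (SL(2, F) ⧸ L)) (hB : L ≤ stabilizer SL(2, F) (inf : P1 F)) (hu : uSL 1 ∈ L)
    {a : Fˣ} (ha : dSL a ∈ L) : (a : F) ^ 4 = 1 := by
  by_contra h4
  have h1 : 1 + (a : F) ^ 2 ≠ 0 := fun e => h4 (by linear_combination (a ^ 2 - 1) * e)
  obtain ⟨m, hm⟩ : ∃ m : F, m * (1 + a ^ 2) = 1 := ⟨_, inv_mul_cancel₀ h1⟩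
  have cw : ∀ {e : Fˣ}, dSL e ∈ L → dSL e ∈ cj wSL L := fun {e} he => by
    rw [← inv_mem_iff, ← wSL_conj_dSL]; exact conj_mem_cj.2 he
  obtain ⟨g, g1, g2, g3, g4⟩ := h.quad (w := 1) (x := wSL) (y := uSL 1 * wSL) (z := uSL m * wSL) (a := dSL a)
    (b := uSL 1 * (dSL a)⁻¹ * (uSL 1)⁻¹) (by rwa [cj_one])
    (by rw [cj_one]; exact mul_mem (mul_mem hu (inv_mem ha)) (inv_mem hu)) (cw ha)
    (by rw [← cj_cj]; exact conj_mem_cj.2 (inv_mem (cw ha))) (by
      rw [← cj_cj]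
      convert conj_mem_cj.2 (cw (e := a * a) (dSL_mul a a ▸ mul_mem ha ha)) using 1
      simp only [_root_.mul_inv_rev, inv_inv, uSL_inv]
      ext i j
      fin_cases i <;> fin_cases j <;> simp [mul_apply, Fin.sum_univ_two]
      field_simp
      linear_combination (a ^ 2 - 1) * hm)
  rw [cj_one] at g1
  have e := psl_eq_one_of_three (pslMk F g) (inf_ne_pt 0) (inf_ne_pt 1) (mt pt_inj.1 zero_ne_one) (hB g1)
    (fix_of_cj hB g2 (p := pt 0) (by simp [sl_inf_pt])) (fix_of_cj hB g3 (p := pt 1) (by simp [sl_inf_pt, mul_apply]))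
  have e3 := fix_of_cj hB g4 (p := pt m) (by simp [sl_inf_pt, mul_apply])
  rw [mul_smul, inv_smul_eq_iff, ← pslMk_smul g, e, one_smul, sl_pt_pt] at e3
  simp only [dSL_val, of_apply, cons_val', cons_val_zero, cons_val_one, cons_val_fin_one] at e3
  field_simp at e3
  apply h4
  linear_combination (1 + a ^ 2) ^ 2 * e3 - (a ^ 4 - 1) * hm

variable [Finite F]

theorem sl_even [CharP F 2] (h : Bin SL(2, F) (SL(2, F) ⧸ L)) (hL : L ≠ ⊤) (he : Even (Nat.card L)) :
    ∃ x : P1 F, L = (unipAct_SL 2).U x := by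
  have h2 : (2 : F) = 0 := CharTwo.two_eq_zero
  have hone : ∀ s t : SL(2, F), orderOf s = 2 → orderOf t = 2 → IsConj s t := fun s t hs ht => by
    simpa using (slEquivPSL h2).symm.toMonoidHom.map_isConj (AB.psl_cls (x := slEquivPSL h2 s) (y := slEquivPSL h2 t)
      (by rwa [MulEquiv.orderOf_eq]) (by rwa [MulEquiv.orderOf_eq]))
  obtain ⟨s, sL, os⟩ := Invol.exists_invol_mem_of_even he
  obtain ⟨c, b, e⟩ := sl_exists_conj_uSL ((sl_pow_char_eq_one_iff 2).1 (os ▸ pow_orderOf_eq_one s))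
  have hu : ∀ b', uSL b' ∈ cj c L := fun b' => (h.cj c).invol hone (conj_mem_cj.2 sL)
    (by simpa using Invol.ne_one_of os) (Invol.mul_self_of ((Invol.orderOf_conj' _ _).trans os))
    (by rw [← uSL_add, CharTwo.add_self_eq_zero, uSL_zero]) (by rw [e, ← uSL_add, ← uSL_add, add_comm])
  have hB : cj c L ≤ stabilizer SL(2, F) (inf : P1 F) := fun g hg => by_contra fun hn => by
    obtain ⟨y, hy⟩ := exists_eq_pt_of_ne hn
    refine hL (cj_eq_top.1 (sl_eq_top_of_uSL_lSL hu fun b' => ?_))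
    have e0 : (uSL (-y) * g) • (inf : P1 F) = pt 0 := by rw [mul_smul, hy, sl_pt_pt]; simp
    obtain ⟨e1, e2⟩ := sl_fix_zero_unip_iff.2 ⟨b', rfl⟩
    obtain ⟨b'', e3⟩ := (sl_fix_inf_unip_iff (g := (uSL (-y) * g)⁻¹ * lSL b' * (uSL (-y) * g)⁻¹⁻¹)).1
      ⟨by rwa [sl_trace_conj], by rw [inv_inv, mul_smul, mul_smul, e0, e2, ← e0, inv_smul_smul]⟩
    have m := mul_mem (hu (-y)) hg
    simpa [← e3, mul_assoc] using mul_mem (mul_mem m (hu b'')) (inv_mem m)
  refine ⟨c⁻¹ • inf, ?_⟩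
  rw [← UnipAct.smul_U, ← cj_inv_cj c L]
  refine congrArg (cj c⁻¹) (le_antisymm (fun g hg => (mem_unipSL_inf 2).2 ?_) fun g hg => ?_)
  · have e1 := (sl_smul_inf_eq_inf g).1 (hB hg)
    have e2 : g.1 0 0 * g.1 1 1 = 1 := by
      have := sl_det g
      rwa [det_fin_two, e1, mul_zero, sub_zero] at this
    let a := Units.mkOfMulEqOne _ _ e2
    have e3 : g = uSL (g.1 0 1 * g.1 0 0) * dSL a := by
      ext i j
      fin_cases i <;> fin_cases j <;> simp [mul_apply, Fin.sum_univ_two, a, e1, eq_inv_of_mul_eq_one_right e2,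
        left_ne_zero_of_mul_eq_one e2]
    have e4 := borel (h.cj c) hB (hu 1) (a := a) (by
      have := mul_mem (inv_mem (hu (g.1 0 1 * g.1 0 0))) (e3 ▸ hg :)
      rwa [inv_mul_cancel_left] at this)
    have e5 : a = 1 := Units.val_eq_one.1 (sub_eq_zero.1 (pow_eq_zero_iff four_ne_zero |>.1 (by
      linear_combination e4 + (1 - 2 * a ^ 3 + 3 * a ^ 2 - 2 * a) * h2)))
    exact ⟨_, by rw [e3, e5, ← show dSLHom F 1 = dSL 1 from rfl, map_one, mul_one]⟩
  · obtain ⟨b, rfl⟩ := (mem_unipSL_inf 2).1 hg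
    exact hu b

theorem psl_even (h2 : (2 : F) ≠ 0) (h4 : 4 ≤ Nat.card F) (h5 : Nat.card F ≠ 5) {H : Subgroup PSL(2, F)}
    (hH : H ≠ ⊤) (he : Even (Nat.card H)) : ¬ Bin PSL(2, F) (PSL(2, F) ⧸ H) := fun h => by
  have := Matrix.ProjectiveSpecialLinearGroup.rank_two_simple h4
  have w0 : (wSL : SL(2, F)).1.trace = 0 := by simp [trace_fin_two]
  have wd : disc (wSL : SL(2, F)).1 ≠ 0 := by
    rw [sl_disc, w0]; intro e; exact h2 (pow_eq_zero_iff two_ne_zero |>.1 (by linear_combination -e))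
  have sq : ∀ {g : SL(2, F)}, g.1.trace = 0 → pslMk F g * pslMk F g = 1 := fun e => by
    rw [← map_mul, sl_mul_self_eq_neg_one_of_trace e, pslMk_neg, map_one]
  have cm : ∀ {g : SL(2, F)}, g * wSL * g⁻¹ = wSL⁻¹ → Commute (pslMk F g) (pslMk F wSL) := fun {g} e => by
    have := congrArg (pslMk F) e
    rw [map_mul, map_mul, map_inv, map_inv, inv_eq_of_mul_eq_one_right (sq w0)] at this
    exact mul_inv_eq_iff_eq_mul.1 this
  obtain ⟨t, t1, -, -, -⟩ := sl_exists_generator wd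
  obtain ⟨u, hu⟩ := sl_exists_inverter wd
  have tw : t ∈ centralizer {wSL} := t1 ▸ mem_zpowers t
  have hv : u * t * wSL * (u * t)⁻¹ = wSL⁻¹ := by
    rw [← hu, mul_assoc u, mem_centralizer_singleton_iff.1 tw]; group
  have e := h.invol_comm ⟨pslMk F (uSL 1), pslMk F (lSL 1), fun e => by
      rw [← map_mul, ← map_mul, pslMk_eq_iff] at e
      rcases e with e | e
      · simpa [mul_apply] using congrArg (fun g : SL(2, F) => g.1 0 0) e
      · have := congrArg (fun g : SL(2, F) => g.1 0 1) e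
        exact h2 (by simpa [mul_apply, eq_neg_iff_add_eq_zero, one_add_one_eq_two] using this)⟩
    (fun _ _ => AB.psl_cls) hH he (s := pslMk F wSL) (orderOf_eq_prime (by rw [pow_two, sq w0])
      (mt pslMk_eq_one_iff.1 (not_isScal_of_disc wd))) (sq (sl_trace_inverter wd hu)) (sq (sl_trace_inverter wd hv))
      (cm hu) (cm hv)
  have e1 := sl_inverts_centralizer (not_isScal_of_disc wd) hu tw
  rw [Commute, SemiconjBy, ← map_mul, ← map_mul, mul_assoc, mul_inv_eq_iff_eq_mul.1 e1, pslMk_eq_iff, ← mul_neg,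
    ← neg_mul, mul_right_inj, mul_right_inj, mul_left_inj, mul_left_inj, inv_eq_iff_mul_eq_one,
    inv_eq_iff_mul_eq_one, mul_neg, neg_eq_iff_eq_neg] at e
  have e2 : t ^ 4 = 1 := by
    rcases e with e | e <;>
      rw [show t ^ 4 = t * t * (t * t) by simp only [pow_succ, pow_zero, one_mul, mul_assoc], e] <;> simp
  have e3 := Nat.le_of_dvd four_pos (orderOf_dvd_of_pow_eq_one e2)
  have e4 := Nat.odd_iff.1 (two_ne_zero_iff_odd.1 h2)
  rw [← Nat.card_zpowers, t1] at e3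
  by_cases hn : NoEig (wSL : SL(2, F)).1
  · rw [sl_card_centralizer_noEig hn] at e3; omega
  · rw [sl_card_centralizer_split wd hn] at e3; omega

theorem psl_odd {H : Subgroup PSL(2, F)} (h : Bin PSL(2, F) (PSL(2, F) ⧸ H)) (h1 : H ≠ ⊥) (ho : Odd (Nat.card H)) :
    (2 : F) = 0 ∧ Nat.card H = 3 ∧ ∀ w : F, w ^ 2 + w + 1 ≠ 0 := by
  obtain ⟨p, hc⟩ := CharP.exists F
  have hp := Fact.mk (CharP.char_is_prime F p)
  have h' := (bin_comap_iff (pslMk F) pslMk_surjective).2 h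
  have hm : -1 ∈ H.comap (pslMk F) := by rw [mem_comap, pslMk_neg, map_one]; exact one_mem _
  by_cases hd : p ∣ Nat.card H
  · exfalso
    have p2 : p ≠ 2 := by rintro rfl; exact Nat.not_even_iff_odd.2 ho (even_iff_two_dvd.2 hd)
    have h2 := two_ne_zero_of_char F p p2
    have key : ∀ c g, g ∈ cj c (H.comap (pslMk F)) → g * g ≠ -1 := fun c g hg e => by
      refine Invol.odd_card_iff.1 ho _ (mem_comap.1 (mem_cj.1 hg)) (orderOf_eq_prime ?_ fun e' => ?_)
      · rw [← map_pow, sq, show c⁻¹ * g * c * (c⁻¹ * g * c) = c⁻¹ * (g * g) * c by group, e, mul_neg_one, neg_mul,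
          inv_mul_cancel, pslMk_neg, map_one]
      · have : g * g = c * ((c⁻¹ * g * c) * (c⁻¹ * g * c)) * c⁻¹ := by group
        rcases sl_isScal_iff.1 (pslMk_eq_one_iff.1 e') with e' | e' <;> rw [e, e'] at this <;>
          exact sl_neg_one_ne_one h2 (by simpa using this)
    have hd' : p ∣ Nat.card (H.comap (pslMk F)) := by rw [card_comap_pslMk]; exact hd.mul_left _
    by_cases hx : ∀ x : P1 F, ∃ g ∈ H.comap (pslMk F), g • x ≠ x
    · obtain ⟨f, hf, hr⟩ := exists_SL2_prime_le p p2 _ hd' hx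
      refine key 1 (f wSL) (by rw [cj_one]; exact hr ⟨_, rfl⟩) ?_
      have e : (wSL * wSL : SL(2, ZMod p)) = -1 := sl_mul_self_eq_neg_one_of_trace (by simp [trace_fin_two])
      rw [← map_mul, e]
      refine (sl_eq_of_mul_self_eq_one h2 (by rw [← map_mul]; simp)).resolve_left fun e' => ?_
      exact sl_neg_one_ne_one (two_ne_zero_of_char _ p p2) (hf (e'.trans (map_one f).symm))
    push Not at hx
    obtain ⟨x, hx⟩ := hx
    obtain ⟨c, rfl⟩ := exists_smul_eq SL(2, F) inf x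
    have hB : cj c⁻¹ (H.comap (pslMk F)) ≤ stabilizer SL(2, F) (inf : P1 F) := by
      rw [← cj_le_cj (x := c), cj_cj_inv, cj_stabilizer]; exact hx
    obtain ⟨s, os⟩ := exists_prime_orderOf_dvd_card' p hd'
    have m := conj_mem_cj (x := c⁻¹).2 s.2
    rw [← Subgroup.orderOf_coe, ← Invol.orderOf_conj' c⁻¹] at os
    obtain ⟨b, e⟩ := sl_fix_inf_unip_iff.1 ⟨(sl_pow_char_eq_one_iff p).1 (os ▸ pow_orderOf_eq_one _), hB m⟩
    rw [e] at m os
    obtain ⟨g, g1, g2⟩ := unip_odd h2 (h'.cj c⁻¹) (mem_cj.2 (by simpa using hm)) hB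
      (by rintro rfl; exact hp.1.one_lt.ne (by simpa [uSL_zero] using os)) m
    exact key _ g g1 g2
  have hcy : IsCyclic H := by
    have ev : ∀ {K : Type} [Group K], Even (Nat.card K) → ¬ Nonempty (H ≃* K) := fun e ⟨f⟩ =>
      Nat.not_even_iff_odd.2 ho (Nat.card_congr f.toEquiv ▸ e)
    rcases dickson_coprime ((pslι F).comp H.subtype) 
      (ProjectiveSpecialLinearGroup.toPGL_injective.comp Subtype.val_injective)
      (mt (CharP.cast_eq_zero_iff F p _).1 hd) with e | ⟨k, -, e⟩ | e | e | e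
    · exact e
    · exact absurd e (ev (by rw [DihedralGroup.nat_card]; exact even_two_mul k))
    · exact absurd e (ev (by rw [card_alt4]; decide))
    · exact absurd e (ev (by simp [Nat.card_perm]; decide))
    · exact absurd e (ev (by rw [card_alt5]; decide))
  obtain ⟨x0, rfl⟩ := (Subgroup.isCyclic_iff_exists_zpowers_eq_top H).1 hcy
  obtain ⟨x, rfl⟩ := pslMk_surjective x0
  have x1 : ¬ IsScal x.1 := mt pslMk_eq_one_iff.2 (mt zpowers_eq_bot.2 h1)
  have xd := sl_disc_ne_zero_of_coprime p x1 hd (pslMk_eq_one_iff.1 (by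
    rw [map_pow, Nat.card_zpowers, pow_orderOf_eq_one]))
  have T := fun y => tor h' hm (x := x) (y := y) (mem_zpowers _) xd fun g ⟨k, hk⟩ => by
    rcases pslMk_eq_iff.1 (hk.symm.trans (map_zpow _ x k).symm) with rfl | rfl
    exacts [Commute.zpow_self x k, (Commute.zpow_self x k).neg_left]
  have xd' := xd
  rw [sl_disc] at xd'
  have A : ∀ β, β = x.1.trace ∨ β = -x.1.trace → β = x.1.trace ^ 2 - 2 := fun β hβ => by
    obtain ⟨y, y1, y2⟩ := exists_SL_trace_mul x1 (α := x.1.trace) (β := β) (.inl xd)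
    rcases sl_eq_or_eq_inv_of_trace xd (mem_centralizer_singleton_iff.2 (T y y1 (y2 ▸ hβ)).symm) y1 with rfl | rfl
    · rw [← y2, sl_mul_self]; simp [sq]
    · rw [inv_mul_cancel] at y2
      have : β = 2 := by rw [← y2]; simp
      exact absurd (by rcases hβ with e | e <;> rw [this] at e <;> [rw [← e]; rw [← neg_sq, ← e]] <;> norm_num) xd'
  have a1 := A _ (.inl rfl)
  have a2 := A _ (.inr rfl)
  have a3 : x.1.trace = -1 := by
    refine eq_neg_of_add_eq_zero_left ((mul_eq_zero (a := x.1.trace - 2)).1 (by linear_combination -a1)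
      |>.resolve_left fun e => xd' ?_)
    linear_combination (x.1.trace + 2) * e
  have h2 : (2 : F) = 0 := by linear_combination a2 - a1 + 2 * a3
  have : Fact (Nat.Prime 3) := ⟨Nat.prime_three⟩
  refine ⟨h2, ?_, fun w hw => ?_⟩
  · rw [Nat.card_zpowers]
    refine orderOf_eq_prime ?_ (mt pslMk_eq_one_iff.1 x1)
    rw [← map_pow, show x ^ 3 = 1 from Subtype.ext ?_, map_one]
    have := sl_mul_self x
    rw [a3, sl_coe_mul] at this
    rw [pow_three, sl_coe_mul, sl_coe_mul, this, mul_sub, mul_smul_comm, this]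
    simp
  have w0 : w ≠ 0 := by rintro rfl; simp at hw
  have wi : w⁻¹ = w ^ 2 := inv_eq_of_mul_eq_one_right (by linear_combination (w - 1) * hw)
  obtain ⟨c, hc⟩ := sl_isConj_of_trace (h := dSL (Units.mk0 w w0)) xd (by
    simp [a3, trace_fin_two, wi]; linear_combination -hw)
  have e := T (c⁻¹ * (uSL 1 * dSL (Units.mk0 w w0)) * c⁻¹⁻¹) (by
    rw [sl_trace_conj, a3]; simp [trace_fin_two, mul_apply, wi]; linear_combination hw) (.inl (by
    rw [← sl_trace_conj c, show c * (c⁻¹ * (uSL 1 * dSL (Units.mk0 w w0)) * c⁻¹⁻¹ * x) * c⁻¹ =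
      uSL 1 * dSL (Units.mk0 w w0) * (c * x * c⁻¹) by group, hc, a3]
    simp [trace_fin_two, mul_apply, wi]; linear_combination (w ^ 2 - w + 1) * hw))
  have e' : c * x * c⁻¹ * (uSL 1 * dSL (Units.mk0 w w0)) = uSL 1 * dSL (Units.mk0 w w0) * (c * x * c⁻¹) := by
    calc _ = c * (x * (c⁻¹ * (uSL 1 * dSL (Units.mk0 w w0)) * c⁻¹⁻¹)) * c⁻¹ := by group
      _ = _ := by rw [e]; group
  have := congrArg (fun g : SL(2, F) => g.1 0 1) (hc ▸ e')
  simp [mul_apply, wi, w0] at this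
  exact one_ne_zero (by linear_combination hw + this - w * h2 : (1 : F) = 0)

omit [Finite F] in
theorem bin_U [CharP F 2] (x : P1 F) : Bin PSL(2, F) (PSL(2, F) ⧸ (unipAct_PSL 2).U x) := by
  have e : ∀ c, cj c ((unipAct_PSL (F := F) 2).U x) = (unipAct_PSL 2).U (c • x) := fun c => UnipAct.smul_U _ c x
  refine bin_of_ti (fun a ha => by simpa only [sq] using ha.1) fun c d a ha b hb a1 b1 h => ?_
  rw [e] at ha hb
  rw [e, e, psl_unique_fixed 2 b1 hb.1 (psl_unique_fixed 2 a1 ha.1 (x := b • c • x)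
    (by rw [← mul_smul a, h, mul_smul, ha.2]) ha.2) hb.2]

theorem three_eq (h2 : (2 : F) = 0) (hw : ∀ w : F, w ^ 2 + w + 1 ≠ 0) {A B : SL(2, F)} (h1 : A.1.trace = 1)
    (h3 : B.1.trace = 1) (h4 : (B * A).1.trace = 1) : B = A := by
  obtain ⟨c, hc⟩ := sl_isConj_of_trace (g := A) (h := wSL * uSL 1) (by
    rw [sl_disc, h1]; intro e; exact one_ne_zero (by linear_combination e + 2 * h2 : (1 : F) = 0))
    (by simp [h1, trace_fin_two, mul_apply])
  rw [← sl_trace_conj c] at h3 h4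
  rw [show c * (B * A) * c⁻¹ = c * B * c⁻¹ * (c * A * c⁻¹) by group, hc] at h4
  refine (MulAut.conj c).injective (Eq.trans ?_ hc.symm)
  rw [MulAut.conj_apply]
  generalize c * B * c⁻¹ = D at *
  have hd := sl_det D
  rw [det_fin_two] at hd
  simp [trace_fin_two, mul_apply] at h3 h4
  have e1 : D.1 0 1 + 1 = 0 := by_contra fun e => hw (D.1 0 0 / (D.1 0 1 + 1)) (by
    field_simp
    linear_combination hd - D.1 0 0 * h3 + D.1 0 1 * (h3 - h4) + (D.1 0 0 ^ 2 + D.1 0 1 ^ 2 + 1 + D.1 0 1) * h2)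
  have e2 : D.1 0 0 = 0 := pow_eq_zero_iff two_ne_zero |>.1 (by
    linear_combination hd - D.1 0 0 * h3 + D.1 0 1 * (h3 - h4) + (D.1 0 0 ^ 2 + D.1 0 1 ^ 2 + 1 + D.1 0 1) * h2 -
      (D.1 0 0 + D.1 0 1 + 1) * e1)
  ext i j
  fin_cases i <;> fin_cases j <;> simp [mul_apply]
  exacts [e2, by linear_combination e1, by linear_combination h3 - h4 - e2 + e1 - h2, by linear_combination h3 - e2]

theorem bin_three (h2 : (2 : F) = 0) (hw : ∀ w : F, w ^ 2 + w + 1 ≠ 0) {H : Subgroup PSL(2, F)}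
    (h3 : Nat.card H = 3) : Bin PSL(2, F) (PSL(2, F) ⧸ H) := by
  have : Fact (Nat.Prime 3) := ⟨Nat.prime_three⟩
  have c3 : ∀ c, Nat.card (cj c H) = 3 := fun c => (Nat.card_congr (cjEquiv c H).toEquiv).symm.trans h3
  have p3 : ∀ c, ∀ a ∈ cj c H, a ^ 3 = 1 := fun c a ha => orderOf_dvd_iff_pow_eq_one.1 (c3 c ▸ orderOf_dvd_natCard _ ha)
  have zp : ∀ c, ∀ a ∈ cj c H, a ≠ 1 → zpowers a = cj c H := fun c a ha a1 =>
    eq_of_le_of_card_ge (zpowers_le.2 ha) (by
      rw [c3, Nat.card_zpowers, orderOf_eq_prime (p3 c a ha) a1])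
  have tr : ∀ c A, pslMk F A ∈ cj c H → pslMk F A ≠ 1 → A.1.trace = 1 := fun c A ha a1 => by
    have := sl_trace_of_isScal_cube (mt pslMk_eq_one_iff.2 a1) (pslMk_eq_one_iff.1 (by rw [map_pow, p3 c _ ha]))
    exact sub_eq_zero.1 (pow_eq_zero_iff two_ne_zero |>.1 (by linear_combination this + (1 - A.1.trace) * h2))
  refine bin_of_tri fun x y z a b ha hb hz hne => ?_
  by_cases a1 : a = 1
  · rw [a1]; exact one_mem _
  by_cases b1 : b = 1
  · simpa [b1] using hz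
  refine absurd ?_ hne
  by_cases e : b⁻¹ * a = 1
  · rw [← zp x a ha a1, ← zp y b hb b1, inv_mul_eq_one.1 e]
  obtain ⟨A, rfl⟩ := pslMk_surjective a
  obtain ⟨B, rfl⟩ := pslMk_surjective b
  rw [← map_inv, ← map_mul] at hz e
  rw [← zp x _ ha a1, ← zp y _ hb b1, ← three_eq h2 hw (tr x A ha a1) ((sl_trace_inv B).trans (tr y B hb b1))
    (tr z _ hz e), map_inv, zpowers_inv]

theorem psl_iff (h4 : 4 ≤ Nat.card F) (h5 : Nat.card F ≠ 5) {H : Subgroup PSL(2, F)} (hH : H ≠ ⊤) :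
    Bin PSL(2, F) (PSL(2, F) ⧸ H) ↔ H = ⊥ ∨ ((2 : F) = 0 ∧ ∃ P : Sylow 2 PSL(2, F), H = P) ∨
      ((2 : F) = 0 ∧ Nat.card H = 3 ∧ ∀ w : F, w ^ 2 + w + 1 ≠ 0) := by
  constructor
  · intro h
    by_cases h1 : H = ⊥
    · exact .inl h1
    rcases Nat.even_or_odd (Nat.card H) with he | ho
    · by_cases h2 : (2 : F) = 0
      · have : CharP F 2 := CharTwo.of_one_ne_zero_of_two_eq_zero one_ne_zero h2
        obtain ⟨x, hx⟩ := sl_even ((bin_comap_iff (pslMk F) pslMk_surjective).2 h)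
          (fun e => hH (comap_injective pslMk_surjective (e.trans (comap_top _).symm)))
          (by rw [card_comap_pslMk]; exact he.mul_left _)
        obtain ⟨P, hP⟩ := (unipAct_PSL 2).exists_sylow (not_char_dvd_card_P1 F 2) x
        refine .inr (.inl ⟨h2, P, hP ▸ Subgroup.ext fun g => ?_⟩)
        obtain ⟨g, rfl⟩ := pslMk_surjective g
        rw [← mem_comap, hx, UnipAct.mem_U, UnipAct.mem_U, ← map_pow, map_eq_one_iff _ (pslMk_injective h2), pslMk_smul]
      · exact absurd h (psl_even h2 h4 h5 hH he)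
    · exact .inr (.inr (psl_odd h h1 ho))
  · rintro (rfl | ⟨h2, P, rfl⟩ | ⟨h2, h3, hw⟩)
    · exact bin_bot
    · have : CharP F 2 := CharTwo.of_one_ne_zero_of_two_eq_zero one_ne_zero h2
      obtain ⟨x, hx⟩ := (unipAct_PSL 2).exists_sylow_eq (not_char_dvd_card_P1 F 2) P
      exact hx ▸ bin_U x
    · exact bin_three h2 hw h3

end Cfsg.Agent.Bin
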