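import Cfsg.Agent.Bin.Basic
import Cfsg.Agent.SE.Bender2

/-! Binary actions II (helper2): transport along surjective homomorphisms (`bin_comap_iff`), and the strongly
embedded subgroup attached to a binary action with a stabiliser of even order (`Bin.se`, `Bin.invol_comm`). -/

set_option autoImplicit false
set_option linter.dupNamespace false

namespace Cfsg.Agent.Bin

open Cfsg.Agent.Sz MulAction Subgroup Relation

variable {G G' Ω Ω' : Type*} [Group G] [Group G'] [MulAction G Ω] [MulAction G' Ω'] {H : Subgroup G}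

theorem Bin.pull (h : Bin G Ω) {f : G' → G} (hf : Function.Surjective f) (e : Ω' → Ω)
    (he : ∀ g a b, g • a = b ↔ f g • e a = e b) : Bin G' Ω' := by
  intro n I J hn hp
  obtain ⟨g, hg⟩ := h n (fun i => e (I i)) (fun i => e (J i)) hn fun i j hij => by
    obtain ⟨g, h1, h2⟩ := hp i j hij
    exact ⟨f g, (he _ _ _).1 h1, (he _ _ _).1 h2⟩
  obtain ⟨g, rfl⟩ := hf g
  exact ⟨g, fun i => (he _ _ _).2 (hg i)⟩

theorem Bin.push (h : Bin G' Ω') {f : G' → G} (hf : Function.Surjective f) (e : Ω → Ω')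
    (he : ∀ g a b, g • e a = e b ↔ f g • a = b) : Bin G Ω := by
  intro n I J hn hp
  obtain ⟨g, hg⟩ := h n (fun i => e (I i)) (fun i => e (J i)) hn fun i j hij => by
    obtain ⟨g, h1, h2⟩ := hp i j hij
    obtain ⟨g, rfl⟩ := hf g
    exact ⟨g, (he _ _ _).2 h1, (he _ _ _).2 h2⟩
  exact ⟨f g, fun i => (he _ _ _).1 (hg i)⟩

theorem bin_comap_iff (f : G' →* G) (hf : Function.Surjective f) : Bin G' (G' ⧸ H.comap f) ↔ Bin G (G ⧸ H) := by
  constructor
  · intro h
    refine h.push hf (fun a => (Function.surjInv hf a.out : G')) fun g a b => ?_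
    rw [smul_mk_iff, mem_comap, map_mul, map_mul, map_inv, Function.surjInv_eq hf, Function.surjInv_eq hf,
      ← smul_mk_iff, QuotientGroup.out_eq', QuotientGroup.out_eq']
  · intro h
    refine h.pull hf (fun a => (f a.out : G)) fun g a b => ?_
    rw [smul_mk_iff, ← map_inv, ← map_mul, ← map_mul, ← mem_comap, ← smul_mk_iff, QuotientGroup.out_eq',
      QuotientGroup.out_eq']

theorem bin_map_iff (e : G ≃* G') : Bin G' (G' ⧸ H.map e.toMonoidHom) ↔ Bin G (G ⧸ H) := by
  rw [← bin_comap_iff e.toMonoidHom e.surjective, comap_map_eq_self_of_injective e.injective]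

theorem Bin.se [Finite G] [IsSimpleGroup G] (h : Bin G (G ⧸ H))
    (hone : ∀ s t : G, orderOf s = 2 → orderOf t = 2 → IsConj s t) (hH : H ≠ ⊤) (he : Even (Nat.card H)) :
    ∃ M : Subgroup G, IsStronglyEmbedded M := by
  obtain ⟨s, sH, os⟩ := Invol.exists_invol_mem_of_even he
  let R : G → G → Prop := fun a b => orderOf a = 2 ∧ orderOf b = 2 ∧ Commute a b
  have : Std.Symm R := ⟨fun a b (h : R a b) => ⟨h.2.1, h.1, h.2.2.symm⟩⟩
  have sy : ∀ {a b}, ReflTransGen R a b → ReflTransGen R b a := fun h => symm h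
  have cn : ∀ (g : G) {a b}, ReflTransGen R a b → ReflTransGen R (g * a * g⁻¹) (g * b * g⁻¹) := fun g a b h =>
    ReflTransGen.lift (p := R) (fun x => g * x * g⁻¹) (fun a b (h : R a b) =>
      ⟨(Invol.orderOf_conj' _ _).trans h.1, (Invol.orderOf_conj' _ _).trans h.2.1, h.2.2.map (MulAut.conj g)⟩) _ _ h
  let C : Set G := {t | ReflTransGen R s t}
  have h1 : ∀ t ∈ C, ∀ g, g * t * g⁻¹ ∈ C → g ∈ normalizer C := fun t ht g hg =>
    mem_set_normalizer_iff.2 fun x => ⟨fun hx => hg.trans (cn g ((sy ht).trans hx)), fun hx =>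
      ht.trans (by simpa [mul_assoc] using cn g⁻¹ ((sy hg).trans hx))⟩
  have h2 : ∀ t ∈ C, t ∈ H := fun t ht => by
    induction ht with
    | refl => exact sH
    | tail _ r ih => exact h.invol hone ih (Invol.ne_one_of r.1) (Invol.mul_self_of r.1) (Invol.mul_self_of r.2.1) r.2.2
  have sC : s ∈ C := ReflTransGen.refl
  have sM : s ∈ normalizer C := h1 s sC s (by simpa using sC)
  have h3 : ∀ t ∈ normalizer C, orderOf t = 2 → t ∈ C := fun t ht ot => by
    rcases Nat.even_or_odd (orderOf (s * t)) with e | e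
    · obtain ⟨z1, z2, z3⟩ := Invol.half_pow_spec (Invol.mul_self_of os) (Invol.mul_self_of ot) e
      exact (ReflTransGen.single ⟨os, z1, z2.symm⟩).tail ⟨z1, ot, z3⟩
    · obtain ⟨k, hk⟩ := Invol.exists_conj_of_odd (Invol.mul_self_of os) (Invol.mul_self_of ot) e
      exact hk ▸ (mem_set_normalizer_iff.1 (zpow_mem (mul_mem sM ht) k) s).1 sC
  refine ⟨normalizer C, Invol.stronglyEmbedded_iff.2 ⟨fun e => hH ?_, ⟨s, sM, os⟩, fun t ht ot g hg =>
    h1 t (h3 t ht ot) g (h3 _ hg ((Invol.orderOf_conj' _ _).trans ot))⟩⟩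
  rcases H.normalCore_normal.eq_bot_or_eq_top with e' | e'
  · have : s ∈ H.normalCore := fun g => h2 _ ((mem_set_normalizer_iff.1 (e ▸ mem_top g) s).1 sC)
    rw [e', mem_bot] at this
    exact absurd this (Invol.ne_one_of os)
  · exact eq_top_iff.2 (e' ▸ H.normalCore_le)

/-- Under the hypotheses of `Bin.se`, two involutions commuting with a third one commute. -/
theorem Bin.invol_comm [Finite G] [IsSimpleGroup G] (h : Bin G (G ⧸ H)) (hna : ∃ a b : G, a * b ≠ b * a)
    (hone : ∀ s t : G, orderOf s = 2 → orderOf t = 2 → IsConj s t) (hH : H ≠ ⊤) (he : Even (Nat.card H))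
    {s u v : G} (os : orderOf s = 2) (hu : u * u = 1) (hv : v * v = 1) (cu : Commute u s) (cv : Commute v s) :
    Commute u v := by
  obtain ⟨M, hM⟩ := h.se hone hH he
  obtain ⟨t, Q, hy⟩ := SE.bender_simple hna hM
  obtain ⟨b, hb⟩ := Rank1.Setup.exists_fixed hy.setup (Invol.mul_self_of os)
  exact hy.comm_of_fix hu hv (Rank1.Setup.fixed_of_commute hy.setup os hb cu)
    (Rank1.Setup.fixed_of_commute hy.setup os hb cv)

end Cfsg.Agent.Bin
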