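import Cfsg.Agent.Bin.Basic
import Cfsg.Agent.SzCh.Sig

/-! Binary actions of the Suzuki groups (helper2): `sz_even`, `sz_odd`, `sz_bin`, `center_U`. -/

set_option autoImplicit false

namespace Cfsg.Agent.Bin

open Cfsg.Agent.Sz Cfsg.Agent.SzCh MulAction Subgroup

variable {F : Type*} [Field F] [Tits F] [Finite F] {G : Type*} [Group G] [SzRep F G] {L : Subgroup G}

theorem center_U : (center (U F G)).map (U F G).subtype = Z F G := by
  ext g
  rw [mem_map]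
  constructor
  · rintro ⟨⟨_, a, b, rfl⟩, h, rfl⟩
    obtain ⟨c, c0, c1⟩ : ∃ c : F, c ≠ 0 ∧ c ≠ a := by
      obtain ⟨c, c0, c1⟩ := Tits.big (F := F)
      by_cases e : c = a
      exacts [⟨1, one_ne_zero, e ▸ c1.symm⟩, ⟨c, c0, e⟩]
    have e : S G c 0 * S G a b = S G a b * S G c 0 := congrArg Subtype.val (mem_center_iff.1 h ⟨_, S_mem_U c 0⟩)
    exact S_mem_Z_iff.2 (by have := S_comm_iff'.1 e; tauto)
  · exact fun h => ⟨⟨g, Z_le_U h⟩, mem_center_iff.2 fun u => Subtype.ext (Z_comm h u.2).symm, rfl⟩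

theorem sz_bin : Bin G (G ⧸ Z F G) := by
  refine bin_of_ti (fun a ha => (mem_Z_iff_sq (Z_le_U ha)).1 ha) fun x y a ha b hb a1 b1 e => ?_
  have h1 := cj_le_cj.2 Z_le_U ha
  have h2 := cj_le_cj.2 Z_le_U hb
  have h3 := cj_U_eq ((isPart_U.conj x).mem_of_commute h1 a1 e.symm) h2 b1
  have h4 : y⁻¹ * x ∈ B F G := by rw [← normalizer_U, ← cj_eq_iff, ← cj_cj, h3, cj_inv_cj]
  rw [← cj_inj (x := y⁻¹), cj_cj, cj_Z h4, cj_inv_cj]

theorem top_of_Z_le (hZ : Z F G ≤ L) (h : ¬ L ≤ B F G) : L = ⊤ := by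
  obtain ⟨g, hg, hB⟩ := SetLike.not_le_iff_exists.1 h
  have h4 := four_le_card F
  obtain ⟨⟨u, hu⟩, e, -⟩ := U_regular (G := G) (p := g • (Pt.inf : Pt F)) (p' := .fin 0 0) (mt mem_B'.2 hB) (by simp)
  have hZ' : Z F G ≤ cj u L := by rw [← cj_Z (U_le_B hu)]; exact cj_le_cj.2 hZ
  obtain ⟨K, -, hK⟩ := eq_SzSub (F := F) (cj u L) (by rw [inf_eq_right.2 hZ', card_Z]; omega) (conj_mem_cj.2 hg) (by
    rw [mul_smul, mul_smul, mem_B'.1 ((B F G).inv_mem (U_le_B hu))]; exact e) (hZ' (S_mem_Z 1))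
  have : K = ⊤ := eq_top_iff.2 fun b _ => (S_mem_SzSub.1 (hK ▸ hZ' (S_mem_Z b))).2
  rwa [this, SzSub_top, cj_eq_top] at hK

omit [Finite F] in
theorem sz_rel : T F G * S G (1 : F) 1 * T F G * S G (1 : F) 0 * T F G * S G (0 : F) 1 * T F G = S G (0 : F) 1 := by
  apply rho_inj (F := F)
  have h2 := two_eq (F := F)
  simp only [map_mul, rho_S, rho_T, Smat, form_def, nrm]
  ext i j
  fin_cases i <;> fin_cases j <;> simp [Matrix.mul_apply, Fin.sum_univ_four] <;> grind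

theorem not_U_le (h : Bin G (G ⧸ L)) (hB : L ≤ B F G) : ¬ U F G ≤ L := by
  intro hU
  have i1 : (S G (1 : F) 0)⁻¹ = S G (1 : F) 1 := by rw [S_inv]; simp
  have i2 : S G (1 : F) 0 * S G (1 : F) 0 = S G (0 : F) 1 := by rw [S_sq]; simp
  obtain ⟨g, g1, g2, g3⟩ := h.tri (x := 1) (y := T F G) (z := S G (1 : F) 0 * T F G) (a := S G (1 : F) 0)
    (b := T F G * (S G (1 : F) 0)⁻¹ * (T F G)⁻¹) (by rw [cj_one]; exact hU (S_mem_U _ _))
    (conj_mem_cj.2 (hU ((U F G).inv_mem (S_mem_U _ _)))) (by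
      rw [mem_cj]
      convert hU (S_mem_U 0 1) using 1
      rw [← sz_rel, ← i1, ← i2]
      simp only [mul_inv_rev, T_inv, inv_inv, mul_assoc])
  rw [cj_one] at g1
  have e2 := mem_B'.1 (hB (mem_cj.1 g2))
  have e3 := mem_B'.1 (hB (mem_cj.1 g3))
  rw [mul_smul, mul_smul, inv_smul_eq_iff, T_smul_inf] at e2
  obtain ⟨l, rfl⟩ := fix_two_iff.1 ⟨mem_B'.1 (hB g1), e2⟩
  rw [mul_smul, mul_smul, inv_smul_eq_iff, mul_smul, mul_smul, inv_smul_eq_iff, T_smul_inf, S_smul_fin, S_smul_fin,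
    M_smul_fin] at e3
  simp at e3

theorem eq_Z_of_le_U (h : Bin G (G ⧸ L)) (hZ : Z F G ≤ L) (hU : L ≤ U F G) : L = Z F G := by
  refine le_antisymm (fun x hx => ?_) hZ
  by_contra hn
  obtain ⟨a, b, rfl⟩ := hU hx
  have ha : a ≠ 0 := mt S_mem_Z_iff.2 hn
  obtain ⟨c, hc⟩ : (D (S G a b)).Nonempty := by
    obtain ⟨l, hl⟩ := θ_surjective a⁻¹
    have l0 : l ≠ 0 := by rintro rfl; exact inv_ne_zero ha (by simpa using hl.symm)
    apply Set.nonempty_of_ncard_ne_zero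
    rw [← D_conj (M G (Units.mk0 l l0)), M_conj_S, Units.val_mk0, hl, inv_mul_cancel₀ ha, ncard_D_four]
    have := four_le_card F
    positivity
  have x1 : S G a b ≠ 1 := fun e => ha (S_eq_one.1 e).1
  have cB := D.not_mem_B (S_mem_U a b) x1 hc
  have x2 : S G a b * S G a b ≠ 1 := mt S_mul_self_eq_one.1 ha
  have x4 : S G a b * S G a b * (S G a b * S G a b) = 1 := by rw [S_sq, S_zero_mul_self]
  have xU := S_mem_U (G := G) a b
  generalize S G a b = x at *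
  obtain ⟨c1, co, cN⟩ := hc
  have m1 : x * c * x⁻¹ ∈ centralizer {c} := (mem_normalizer_iff.1 cN c).1 (mem_centralizer_self c)
  have inv := fun y hy => conj_eq_inv F c1 co x2 x4 (mul_mem cN cN) (y := y) hy
  have e1 : x * (c * x * c⁻¹) = x * c * x⁻¹ * c * (x * x) := by
    have := inv _ ((centralizer {c}).inv_mem (mem_centralizer_self c))
    rw [inv_inv] at this
    calc x * (c * x * c⁻¹) = x * c * x⁻¹ * (x * x * c⁻¹ * (x * x)) * (x * x * (x * x))⁻¹ * (x * x) := by group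
      _ = _ := by rw [this, x4]; group
  have m2 := mul_mem m1 (mem_centralizer_self c)
  have w2 : x * (c * x * c⁻¹) * (x * (c * x * c⁻¹)) = 1 := by
    rw [e1]
    calc _ = x * c * x⁻¹ * c * (x * x * (x * c * x⁻¹ * c) * (x * x)) := by group
      _ = 1 := by rw [inv _ m2]; group
  have UU : ∀ g ∈ U F G, g ∈ cj c (U F G) → g = 1 := fun g h1 h2 => by_contra fun g1 =>
    cB (mem_B_of_conj_mem_B h1 g1 (U_le_B (mem_cj.1 h2)))
  have vU : c * x * c⁻¹ ∈ cj c (U F G) := conj_mem_cj.2 xU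
  have x1' : x ∉ cj c (U F G) := fun e => x1 (UU x xU e)
  have w1 : x * (c * x * c⁻¹) ≠ 1 := fun e => x1' (by rw [eq_inv_of_mul_eq_one_left e]; exact inv_mem vU)
  obtain ⟨z, hz⟩ := exists_conj_of_involution F w1 w2
  have wz : x * (c * x * c⁻¹) ∈ cj z L := mem_cj.2 (hz ▸ hZ (S_mem_Z 1))
  obtain ⟨g, g1, g2, g3⟩ := h.tri (x := c) (y := 1) (z := z) (a := c * x * c⁻¹) (b := x⁻¹) (conj_mem_cj.2 hx)
    (by rw [cj_one]; exact inv_mem hx) (by rwa [inv_inv])
  rw [cj_one] at g2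
  rw [UU g (hU g2) (cj_le_cj.2 hU g1), inv_one, one_mul] at g3
  have e := cj_U_eq (cj_le_cj.2 hU g3) vU (by simpa using x1)
  have := mul_mem (e ▸ cj_le_cj.2 hU wz) (inv_mem vU)
  rw [_root_.mul_inv_cancel_right] at this
  exact x1' this

theorem mem_of_conj (hB : L ≤ B F G) {g u : G} (hg : g ∈ L) (gU : g ∉ U F G) (hu : u ∈ U F G)
    (h : g ∈ cj u L) : u ∈ L := by
  have := finite_G F G
  have key : ∀ y ∈ U F G, ∀ y' ∈ U F G, y⁻¹ * g * y * g⁻¹ = y'⁻¹ * g * y' * g⁻¹ → y = y' := fun y hy y' hy' e => by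
    by_contra hne
    refine gU (mem_U_of_commute (mul_mem hy (inv_mem hy')) (fun e => hne (mul_inv_eq_one.1 e)) ?_)
    calc g * (y * y'⁻¹) = y * (y⁻¹ * g * y * g⁻¹) * g * y'⁻¹ := by group
      _ = _ := by rw [e]; group
  have mU : ∀ y ∈ U F G, y⁻¹ * g * y * g⁻¹ ∈ U F G := fun y hy => by
    simpa only [mul_assoc] using mul_mem (inv_mem hy) (conj_mem_U (hB hg) hy)
  let f : ↥(L ⊓ U F G) → ↥(L ⊓ U F G) := fun y =>
    ⟨_, L.mul_mem (L.mul_mem (L.mul_mem (L.inv_mem y.2.1) hg) y.2.1) (L.inv_mem hg), mU y y.2.2⟩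
  obtain ⟨y, hy⟩ := Finite.surjective_of_injective (f := f)
    (fun y y' e => Subtype.ext (key _ y.2.2 _ y'.2.2 (congrArg Subtype.val e)))
    ⟨_, L.mul_mem (mem_cj.1 h) (L.inv_mem hg), mU u hu⟩
  rw [← key _ y.2.2 _ hu (congrArg Subtype.val hy)]
  exact y.2.1

theorem U_le_of_M (h : Bin G (G ⧸ L)) (hZ : Z F G ≤ L) (hB : L ≤ B F G) {l : Fˣ} (l1 : l ≠ 1) (hl : M G l ∈ L) :
    U F G ≤ L := by
  intro u hu
  by_contra hn
  have lU : M G l ∉ U F G := mt M_mem_U.1 l1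
  obtain ⟨a, b, e⟩ := mul_mem hu (conj_mem_U (M_mem_B l) (inv_mem hu))
  obtain ⟨c, d, e'⟩ := S_mul_M_conj (G := G) a b (l := l * l) fun e => inv_ne_self l1 (inv_eq_of_mul_eq_one_right e)
  have m : (u * (M G l)⁻¹ * u⁻¹)⁻¹ * M G l ∈ cj (S G c d) L := by
    have : (u * (M G l)⁻¹ * u⁻¹)⁻¹ * M G l = S G c d * M G (l * l) * (S G c d)⁻¹ := by
      rw [← e', ← e, ← M_mul_M]; group
    rw [this, conj_mem_cj, ← M_mul_M]; exact mul_mem hl hl
  obtain ⟨g, g1, g2, g3⟩ := h.tri (x := 1) (y := u) (by rwa [cj_one]) (conj_mem_cj.2 (inv_mem hl)) m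
  rw [cj_one] at g1
  obtain ⟨x, y, rfl⟩ : g ∈ U F G := by_contra fun gU => hn (mem_of_conj hB g1 gU hu g2)
  have g4 : S G x y ∈ cj (S G c d) L := by
    have := S_conj_S (G := G) c (d + c * θ c) x y
    rw [← S_inv, inv_inv] at this
    rw [mem_cj, this]
    simpa [S_mul_S, add_comm, add_left_comm, add_assoc] using mul_mem (hZ (S_mem_Z (θ c * x + θ x * c))) g1
  have vL := mem_of_conj hB hl lU (S_mem_U c d) (by simpa using mul_mem g4 g3)
  rw [cj_eq_iff.2 (le_normalizer vL)] at m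
  exact hn (inv_mem_iff.1 (mem_of_conj hB hl lU (inv_mem hu) (by
    rw [mem_cj]; simpa [mul_assoc] using mul_mem m (inv_mem hl))))

variable (F) in
include F in
theorem sz_one (s t : G) (hs : orderOf s = 2) (ht : orderOf t = 2) : IsConj s t := by
  have key : ∀ s : G, orderOf s = 2 → IsConj s (S G (0 : F) 1) := fun s hs => by
    obtain ⟨x, hx⟩ := exists_conj_of_involution F (t := s) (by rintro rfl; simp at hs)
      (by rw [← sq, ← hs, pow_orderOf_eq_one])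
    exact isConj_iff.2 ⟨x⁻¹, by simpa using hx⟩
  exact (key s hs).trans (key t ht).symm

theorem sz_even (h : Bin G (G ⧸ L)) (hL : L ≠ ⊤) {s : G} (hs : s ∈ L) (sZ : s ∈ Z F G) (s1 : s ≠ 1) : L = Z F G := by
  have := finite_G F G
  have hZ : Z F G ≤ L := fun t ht => h.invol (sz_one F) hs s1 ((mem_Z_iff_sq (Z_le_U sZ)).1 sZ)
    ((mem_Z_iff_sq (Z_le_U ht)).1 ht) (Z_comm sZ (Z_le_U ht))
  have hB : L ≤ B F G := by_contra fun e => hL (top_of_Z_le hZ e)
  refine eq_Z_of_le_U h hZ fun g hg => by_contra fun gU => ?_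
  obtain ⟨a, b, l, rfl⟩ := mem_B.1 (hB hg)
  have l1 : l ≠ 1 := mt S_mul_M_mem_U.2 gU
  obtain ⟨x, y, e⟩ := S_mul_M_conj (G := G) a b l1
  have hv := (B F G).inv_mem (S_mem_B (G := G) x y)
  have hB' : cj (S G x y)⁻¹ L ≤ B F G := by
    rw [← cj_eq_iff.2 (le_normalizer hv)]; exact cj_le_cj.2 hB
  refine not_U_le (h.cj _) hB' (U_le_of_M (h.cj _) ?_ hB' l1 ?_)
  · rw [← cj_Z hv]; exact cj_le_cj.2 hZ
  · rw [mem_cj, inv_inv, ← e]; exact hg

variable (F) in
include F in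
theorem comm_of_odd (ho : Odd (Nat.card L)) {a b : G} (ha : a ∈ L) (hb : b ∈ L) : a * b = b * a := by
  have := finite_G F G
  have od : ∀ g ∈ L, Odd (orderOf g) := fun g hg => ho.of_dvd_nat (orderOf_dvd_natCard L hg)
  rcases subgroup_cases F L with ⟨A, hA, hN⟩ | ⟨x, K, -, e⟩
  · rcases hA.cases_odd with ⟨x, rfl⟩ | ⟨c, c1, co, rfl⟩
    · rw [normalizer_cj, normalizer_U] at hN
      obtain ⟨a1, a2, k, ea⟩ := mem_B.1 (mem_cj.1 (hN ha))
      obtain ⟨b1, b2, l, eb⟩ := mem_B.1 (mem_cj.1 (hN hb))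
      rw [← mul_inv_eq_one]
      refine eq_one_of_odd (F := F) (x := x) (mem_cj.2 ?_) (od _ (mul_mem (mul_mem ha hb) (inv_mem (mul_mem hb ha))))
      have e : x⁻¹ * (a * b * (b * a)⁻¹) * x = S G a1 a2 * (M G k * S G b1 b2 * (M G k)⁻¹) *
          (M G k * M G l * (M G l * M G k)⁻¹) * (S G b1 b2 * (M G l * S G a1 a2 * (M G l)⁻¹))⁻¹ := by
        calc _ = (x⁻¹ * a * x) * (x⁻¹ * b * x) * ((x⁻¹ * b * x) * (x⁻¹ * a * x))⁻¹ := by group
          _ = _ := by rw [ea, eb]; group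
      rw [e, M_comm k l, mul_inv_cancel, mul_one, M_conj_S, M_conj_S]
      exact mul_mem (mul_mem (S_mem_U _ _) (S_mem_U _ _)) (inv_mem (mul_mem (S_mem_U _ _) (S_mem_U _ _)))
    · exact comm_of_mem_centralizer F c1 co (mem_centralizer_of_odd F c1 co (hN ha) (od a ha))
        (mem_centralizer_of_odd F c1 co (hN hb) (od b hb))
  · have := od _ (e ▸ conj_mem_cj.2 T_mem_SzSub : x * T F G * x⁻¹ ∈ L)
    have h2 : (x * T F G * x⁻¹) ^ 4 = 1 := sq_four (by rw [conj_mul, T_mul_T]; simp)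
    exact absurd h2 (odd_four (by simpa using T_ne_one) this)

variable (F) in
include F in
theorem sz_odd (h : Bin G (G ⧸ L)) (ho : Odd (Nat.card L)) : L = ⊥ := by
  classical
  have := finite_G F G
  have := Fintype.ofFinite G
  rw [eq_bot_iff]
  intro x hx
  by_contra x1
  rw [mem_bot] at x1
  have xo : Odd (orderOf x) := ho.of_dvd_nat (orderOf_dvd_natCard L hx)
  have hP := isPart_centralizer F x1 xo
  have xs := mem_centralizer_self x
  have hL : L ≤ centralizer {x} := fun y hy => mem_centralizer_singleton_iff.2 (comm_of_odd F ho hy hx)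
  have h1 := card_pairs_ge F (x := x) (g := x) (fun e => odd_four x1 xo (sq_four e)) x1
  have key : ∀ a b : G, a * x * a⁻¹ * (b * x * b⁻¹) = x → a ∈ normalizer (centralizer {x} : Set G) := by
    intro a b e
    refine hP.mem_normalizer xs x1 (by_contra fun hn => ?_)
    obtain ⟨g, g1, g2, g3⟩ := h.tri (x := b) (y := a) (z := 1) (a := b * x * b⁻¹) (b := a * x⁻¹ * a⁻¹)
      (conj_mem_cj.2 hx) (conj_mem_cj.2 (inv_mem hx)) (by
        rw [cj_one, show (a * x⁻¹ * a⁻¹)⁻¹ = a * x * a⁻¹ by group, e]; exact hx)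
    rw [cj_one] at g3
    by_cases e1 : g = 1
    · rw [e1, inv_one, one_mul] at g3
      exact hn (by rw [eq_mul_inv_of_mul_eq e]; exact mul_mem xs (inv_mem (hL g3)))
    · have e2 := (hP.conj b).eq_of_mem (hP.conj a) (cj_le_cj.2 hL g1) (cj_le_cj.2 hL g2) e1
      have m : x ∈ cj a (centralizer {x}) := by
        have := mul_mem (conj_mem_cj (x := a).2 xs) (e2 ▸ conj_mem_cj (x := b).2 xs)
        rwa [e] at this
      exact hn ((hP.conj a).eq_of_mem hP m xs x1 ▸ conj_mem_cj.2 xs)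
  have h2 : Nat.card {p : G × G // p.1 * x * p.1⁻¹ * (p.2 * x * p.2⁻¹) = x} ≤
      Nat.card (normalizer (centralizer {x} : Set G)) * Nat.card (centralizer {x}) := by
    rw [← Nat.card_prod]
    have hc : ∀ a : G, ∃ c : G, ∀ b, a * x * a⁻¹ * (b * x * b⁻¹) = x → c * b ∈ centralizer {x} := fun a => by
      by_cases e : ∃ b, a * x * a⁻¹ * (b * x * b⁻¹) = x
      · obtain ⟨b, hb⟩ := e
        refine ⟨b⁻¹, fun b' hb' => mem_centralizer_singleton_iff.2 ?_⟩
        have := mul_left_cancel (hb.trans hb'.symm)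
        calc b⁻¹ * b' * x = b⁻¹ * (b' * x * b'⁻¹) * b' := by group
          _ = _ := by rw [← this]; group
      · exact ⟨1, fun b hb => absurd ⟨b, hb⟩ e⟩
    choose c hc using hc
    refine Nat.card_le_card_of_injective (fun p => (⟨p.1.1, key _ _ p.2⟩, ⟨_, hc _ _ p.2⟩)) ?_
    rintro ⟨⟨a, b⟩, _⟩ ⟨⟨a', b'⟩, _⟩ e
    simp only [Prod.mk.injEq, Subtype.mk.injEq] at e ⊢
    obtain ⟨rfl, e⟩ := e
    exact ⟨rfl, mul_left_cancel e⟩
  have h3 : Nat.card (normalizer (centralizer {x} : Set G)) ≤ 4 * Nat.card (centralizer {x}) := by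
    rw [card_normalizer_centralizer (F := F) x1 xo]; split_ifs <;> omega
  have h4 : Nat.card (centralizer {x}) ≤ 2 * Nat.card F := by
    obtain ⟨m, hm, hq⟩ := exists_card_eq_odd F
    obtain ⟨T, t, -⟩ := exists_tori F G hm hq
    obtain ⟨δ, hδ, hx⟩ := (t.cover x).resolve_left (odd_four x1 xo)
    have e := t.card δ hδ
    have hs : (2 : ℤ) ≤ 2 ^ m := le_self_pow₀ (by norm_num) (by omega)
    rw [t.card_cent hδ hx, hq]
    zify
    rw [e, show (2 : ℤ) ^ (2 * m + 1) = 2 * (2 ^ m) ^ 2 by ring]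
    simp only [Finset.mem_insert, Finset.mem_singleton] at hδ
    rcases hδ with rfl | rfl | rfl <;> nlinarith
  have h8 := eight_le_card F
  rw [card_G (F := F)] at h1
  obtain ⟨n, hn⟩ : ∃ n, Nat.card F = n + 1 := ⟨Nat.card F - 1, by omega⟩
  rw [hn] at h1 h4 h8
  have h5 := h1.trans (Nat.mul_le_mul_left _ (h2.trans (Nat.mul_le_mul (h3.trans (Nat.mul_le_mul_left _ h4)) h4)))
  simp only [add_tsub_cancel_right] at h5
  have h6 : 65 * 7 ≤ ((n + 1) ^ 2 + 1) * n := Nat.mul_le_mul (by nlinarith) (by omega)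
  nlinarith [Nat.mul_le_mul_left ((n + 1) ^ 2) h6]

variable (F) in
include F in
theorem sz_iff (hL : L ≠ ⊤) : Bin G (G ⧸ L) ↔
    L = ⊥ ∨ ∃ P : Sylow 2 G, L = (center (P : Subgroup G)).map (P : Subgroup G).subtype := by
  have := finite_G F G
  have : Fact (Nat.Prime 2) := ⟨Nat.prime_two⟩
  constructor
  · intro h
    rcases Nat.even_or_odd (Nat.card L) with he | ho
    · obtain ⟨s, hs⟩ := exists_prime_orderOf_dvd_card' (G := L) 2 he.two_dvd
      have hs' : orderOf (s : G) = 2 := by rw [orderOf_coe, hs]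
      obtain ⟨P, hP⟩ := (IsPGroup.of_card (p := 2) (G := zpowers (s : G)) (n := 1) (by
        rw [Nat.card_zpowers, hs']; rfl)).exists_le_sylow
      obtain ⟨inst, e⟩ := exists_rep_U_eq F P
      refine .inr ⟨P, ?_⟩
      rw [← e, center_U]
      exact sz_even h hL s.2 ((mem_Z_iff_sq (e ▸ hP (mem_zpowers _))).2 (by rw [← sq, ← hs', pow_orderOf_eq_one]))
        (by intro e; rw [e] at hs'; simp at hs')
    · exact .inl (sz_odd F h ho)
  · rintro (rfl | ⟨P, rfl⟩)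
    · exact bin_bot
    · obtain ⟨inst, e⟩ := exists_rep_U_eq F P
      rw [← e, center_U]; exact sz_bin

end Cfsg.Agent.Bin
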