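import Cfsg.Agent.Bin.SE
import Cfsg.Agent.Pres.SU3

/-! Binary actions of `SU₃(q)`, `q` even, in the split model `UG σ 3` (helper2): affine coordinates `Af` on the Borel
subgroup, the witnesses `Q_le`, `tri3`, `w1`, `w2`, `w3`, and the conclusion `u3_main`. -/

set_option autoImplicit false
set_option linter.unusedSectionVars false

namespace Cfsg.Agent.Bin

open Cfsg.Agent.Sz MulAction Subgroup Matrix
open Cfsg.Agent.Pres hiding cj mem_cj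

variable {F : Type*} [Field F] {σ : F →+* F} [hσ : Fact (∀ x, σ (σ x) = x)] {L : Subgroup (UG σ 3)}
  {g g' u : UG σ 3} {α α' β β' m m' : F}

/-- `g` lies in the Borel subgroup and induces `x ↦ m * x + α` on `Q / Q₀`. -/
def Af (g : UG σ 3) (α m : F) : Prop := ∃ (β : F) (l : Fˣ), Ok3 σ α β ∧ m = l ^ 2 / σ l ∧ g = u3 σ α β * h3 σ l

theorem okE (h : Ok3 σ α β) : β + σ β + α * σ α = 0 := h

theorem u3_inv (h : Ok3 σ α β) : (u3 σ α β)⁻¹ = u3 σ (-α) (σ β) := by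
  rw [inv_eq_iff_mul_eq_one, u3_mul h h.neg, ← u3_zero]
  congr 1
  · ring
  · rw [map_neg]; linear_combination okE h

theorem Af.mul (h : Af g α m) (h' : Af g' α' m') : Af (g * g') (α + m * α') (m * m') := by
  obtain ⟨β, l, ok, rfl, rfl⟩ := h
  obtain ⟨β', l', ok', rfl, rfl⟩ := h'
  refine ⟨_, l * l', ok.add (ok'.conj l), by simp; ring, ?_⟩
  rw [← u3_mul ok (ok'.conj l), ← h3_conj ok', map_mul]; group

theorem Af.ne (h : Af g α m) : m ≠ 0 := by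
  obtain ⟨β, l, ok, rfl, rfl⟩ := h
  simp

theorem Af.inv (h : Af g α m) : Af g⁻¹ (-(m⁻¹ * α)) m⁻¹ := by
  obtain ⟨β, l, ok, rfl, rfl⟩ := h
  refine ⟨_, l⁻¹, by convert ok.neg.conj l⁻¹ using 1; simp [div_eq_mul_inv, mul_comm], by simp; ring, ?_⟩
  rw [_root_.mul_inv_rev, u3_inv ok, map_inv, ← mul_inv_eq_iff_eq_mul, ← map_inv, h3_conj ok.neg]
  congr 1; simp [div_eq_mul_inv, mul_comm]

theorem Af.of (h : Af g α m) (e1 : α = α') (e2 : m = m') : Af g α' m' := e1 ▸ e2 ▸ h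

theorem af_u (h : Ok3 σ α β) : Af (u3 σ α β) α 1 := ⟨β, 1, h, by simp, by simp⟩

theorem af_h (l : Fˣ) : Af (h3 σ l) 0 (l ^ 2 / σ l) := ⟨0, l, by simp [Ok3], rfl, by simp [u3_zero]⟩

theorem af_of_mem (h : g ∈ B3 σ) : ∃ α m, Af g α m := by
  obtain ⟨α, β, l, ok, rfl⟩ := mem_B3.1 h
  exact ⟨α, _, β, l, ok, rfl, rfl⟩

theorem Af.memB (h : Af g α m) : g ∈ B3 σ := by
  obtain ⟨β, l, ok, rfl, rfl⟩ := h
  exact mul_mem (u3_mem _ _) (h3_mem _)

theorem Af.conj (h : Af g α m) (h' : Af u α' 1) : Af (g * u * g⁻¹) (m * α') 1 :=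
  ((h.mul h').mul h.inv).of (by have := h.ne; field_simp; ring) (by have := h.ne; field_simp)

/-- `L` contains the kernel of the affine action. -/
def Ker (L : Subgroup (UG σ 3)) : Prop := ∀ g : UG σ 3, Af g 0 1 → g ∈ L

theorem Ker.mem (hK : Ker L) (h : Af g α m) (h' : Af g' α m) (hg : g' ∈ L) : g ∈ L := by
  simpa using mul_mem hg (hK _ ((h'.inv.mul h).of (by ring) (inv_mul_cancel₀ h.ne)))

theorem Ker.cj (hK : Ker L) (h : u ∈ B3 σ) : Ker (cj u L) := fun g hg => by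
  obtain ⟨α, m, h⟩ := af_of_mem (inv_mem h)
  exact mem_cj.2 (hK _ (by simpa using h.conj hg))

theorem Ker.mem_of_conj [Finite F] (hK : Ker L) (hg : g ∈ L) (h : Af g α m) (h1 : m ≠ 1) (hu : Af u α' 1)
    (hc : g ∈ Sz.cj u L) : u ∈ L := by
  let R := {x : F // ∃ v ∈ L, Af v x 1}
  let f : R → R := fun x => ⟨(m - 1) * x, by
    obtain ⟨v, hv, a⟩ := x.2
    exact ⟨_, mul_mem (mul_mem (mul_mem hg hv) (inv_mem hg)) (inv_mem hv),
      ((h.conj a).mul a.inv).of (by ring) (by simp)⟩⟩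
  obtain ⟨⟨x, v, hv, a⟩, hx⟩ := Finite.surjective_of_injective (f := f)
    (fun x y e => Subtype.ext (mul_left_cancel₀ (sub_ne_zero.2 h1) (congrArg Subtype.val e)))
    ⟨(m - 1) * α', _, mul_mem (mem_cj.1 hc) (inv_mem hg), by
      simpa only [mul_assoc] using (hu.inv.mul (h.conj hu)).of (by ring) (by simp)⟩
  exact hK.mem hu (mul_left_cancel₀ (sub_ne_zero.2 h1) (congrArg Subtype.val hx) ▸ a) hv

theorem tut_mem (ok : Ok3 σ α β) (h : t3 σ * u3 σ α β * t3 σ ∈ B3 σ) : α = 0 ∧ β = 0 := by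
  rw [mem_B3', UG_mul, UG_mul, u3_val ok, t3_val, mul_fin_three, mul_fin_three] at h
  simpa using h

theorem t3_inv : (t3 σ)⁻¹ = t3 σ := inv_eq_of_mul_eq_one_right t3_sq

theorem tt (g : UG σ 3) : t3 σ * (t3 σ * g) = g := by rw [← mul_assoc, t3_sq, one_mul]

theorem h3_comm (l k : Fˣ) : h3 σ l * h3 σ k = h3 σ k * h3 σ l := by rw [← map_mul, ← map_mul, mul_comm]

theorem cjB (hB : L ≤ B3 σ) {c : UG σ 3} (hc : c ∈ B3 σ) : cj c L ≤ B3 σ := by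
  rw [← cj_eq_iff.2 (le_normalizer hc)]; exact cj_le_cj.2 hB

theorem tri3 (h : Bin (UG σ 3) (UG σ 3 ⧸ L)) (hB : L ≤ B3 σ) (ok : Ok3 σ α β) (ok' : Ok3 σ α' β') (b0 : β ≠ 0)
    (b0' : β' ≠ 0) {l1 l2 l3 : Fˣ} (h1 : u3 σ α' β' * (u3 σ α β)⁻¹ ∈ cj (h3 σ l1) L)
    (h2 : u3 σ (-α' / σ β') β'⁻¹ * (u3 σ (-α / σ β) β⁻¹)⁻¹ ∈ cj (h3 σ l2) L)
    (h4 : (u3 σ (-α / β) β⁻¹)⁻¹ * h3 σ (Units.mk0 β' b0' / Units.mk0 β b0) * u3 σ (-α' / β') β'⁻¹ ∈ cj (h3 σ l3) L) :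
    ∃ l : Fˣ, h3 σ l ∈ L ∧ l ^ 2 / σ l * α = α' ∧ l * σ l * β = β' := by
  obtain ⟨g, g1, g2, g3⟩ := h.tri (y := t3 σ * h3 σ l2) (z := u3 σ α β * t3 σ * h3 σ l3) h1
    (by rw [← cj_cj]; exact conj_mem_cj.2 h2) (by
      rw [← cj_cj, mem_cj]
      convert h4 using 1
      have e1 := t3_u ok b0
      have e2 := t3_u ok' b0'
      have e3 : h3 σ (Units.mk0 β' b0' / Units.mk0 β b0) =
          t3 σ * (h3 σ (ci σ (Units.mk0 β b0)))⁻¹ * h3 σ (ci σ (Units.mk0 β' b0')) * t3 σ := by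
        rw [mul_assoc (t3 σ), ← map_inv, ← map_mul, t3_h]
        congr 1; ext; simp [div_eq_inv_mul, mul_comm]
      rw [e3]
      calc _ = (t3 σ * u3 σ α β * t3 σ)⁻¹ * u3 σ (-α / σ β) β⁻¹ * (u3 σ (-α' / σ β') β'⁻¹)⁻¹ *
          (t3 σ * u3 σ α' β' * t3 σ) := by simp [t3_inv, mul_assoc]
        _ = _ := by rw [e1, e2]; simp [t3_inv, mul_assoc])
  rw [← cj_cj] at g2 g3
  obtain ⟨l, rfl⟩ := eq_h3 (cjB hB (h3_mem _) g1) (by simpa [t3_inv] using cjB hB (h3_mem _) (mem_cj.1 g2))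
  refine ⟨l, by simpa [mul_assoc, h3_comm l] using mem_cj.1 g1, ?_⟩
  have e := mul_mem (cjB hB (h3_mem _) (mem_cj.1 g3)) (h3_mem (ci σ l))
  rw [← t3_h, show _ * (t3 σ * h3 σ l * t3 σ) = t3 σ * ((u3 σ α β)⁻¹ * ((h3 σ l)⁻¹ * u3 σ α' β' * (h3 σ l)⁻¹⁻¹)) *
    t3 σ by simp [t3_inv, mul_assoc, tt], ← map_inv (h3 σ), h3_conj ok',
    u3_inv ok, u3_mul ok.neg (ok'.conj _)] at e
  obtain ⟨e1, e2⟩ := tut_mem (ok.neg.add (ok'.conj _)) e
  have := l.ne_zero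
  have : σ l ≠ 0 := by simp
  simp only [Units.val_inv_eq_inv_val, map_inv₀] at e1 e2
  have e3 : α' = l ^ 2 / σ l * α := by field_simp at e1 ⊢; linear_combination e1
  subst e3
  refine ⟨rfl, ?_⟩
  simp only [map_mul, map_div₀, map_pow, map_inv₀, σσ] at e2
  field_simp at e2
  linear_combination l * σ l * okE ok - e2

theorem col_iff : g⁻¹ * g' ∈ B3 σ ↔ ∃ c : F, ∀ i, g'.1.1 i 0 = c * g.1.1 i 0 := by
  refine ⟨fun h => ⟨(g⁻¹ * g').1.1 0 0, fun i => ?_⟩, fun ⟨c, h⟩ => ?_⟩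
  · obtain ⟨h1, h2⟩ := mem_B3'.1 h
    conv_lhs => rw [← mul_inv_cancel_left g g', UG_mul, mul_apply, Fin.sum_univ_three, h1, h2]
    ring
  · have : ∀ i, (g⁻¹ * g').1.1 i 0 = c * (g⁻¹ * g).1.1 i 0 := fun i => by
      simp only [UG_mul, mul_apply, Fin.sum_univ_three, h]; ring
    rw [mem_B3', this, this, inv_mul_cancel]
    simp

theorem h3_central {l : Fˣ} (h : (l : F) ^ 2 / σ l = 1) (g : UG σ 3) : g * h3 σ l = h3 σ l * g := by
  have l0 := l.ne_zero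
  have s0 : σ l ≠ 0 := by simp
  have e1 : σ l = l ^ 2 := by field_simp at h; exact h.symm
  have e2 : (l : F) ^ 3 = 1 := by
    have := congrArg σ e1
    rw [σσ, map_pow, e1] at this
    exact mul_left_cancel₀ l0 (by linear_combination -this)
  have e3 : (h3 σ l).1.1 = (l : F) • 1 := by
    rw [h3_val, one_fin_three, e1]
    ext i j; fin_cases i <;> fin_cases j <;> simp <;> field_simp
    exact e2.symm
  exact UG_ext (by rw [UG_mul, UG_mul, e3]; simp)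

variable [Finite F] [CharP F 2] (h : Bin (UG σ 3) (UG σ 3 ⧸ L)) (hK : Ker L) {κ : F} (hκ : σ κ ≠ κ)

include hκ in
theorem exists_ok' (α : F) : ∃ β, Ok3 σ α β := by
  have : κ + σ κ ≠ 0 := fun e => hκ (by linear_combination e - κ * CharTwo.two_eq_zero (R := F))
  refine ⟨α * σ α * κ / (κ + σ κ), ?_⟩
  simp only [Ok3, map_div₀, map_mul, map_add, σσ, add_comm (σ κ)]
  field_simp
  linear_combination α * σ α * CharTwo.two_eq_zero (R := F)

include h hK hκ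

theorem Q_le (hN : ∀ u α, Af u α 1 → u ∉ L → ∀ g ∈ L, g ∈ cj u L → g ∈ B3 σ) {e : UG σ 3} (he : e ∈ L)
    (a : Af e α m) (h1 : m ≠ 1) (hu : Af u α' 1) : u ∈ L := by
  by_contra hn
  have h2 := CharTwo.two_eq_zero (R := F)
  have m1 : 1 + m ≠ 0 := fun e => h1 (by linear_combination e - h2)
  obtain ⟨x, hx⟩ : ∃ x, (1 + m) * x = α' := ⟨_, mul_div_cancel₀ _ m1⟩
  obtain ⟨y, ok⟩ := exists_ok' hκ x
  have hv := af_u ok
  generalize u3 σ x y = v at hv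
  have m0 := a.ne
  obtain ⟨g, g1, g2, g3⟩ := h.tri (x := 1) (y := u) (z := v) (a := e) (b := u * e⁻¹ * u⁻¹) (by rwa [cj_one])
    (conj_mem_cj.2 (inv_mem he)) (mem_cj.2 (hK.mem (((hv.inv.mul (((hu.mul a.inv).mul hu.inv).inv.mul a)).mul hv).of
      (by subst hx; field_simp; ring) (by field_simp)) (a.mul a) (mul_mem he he)))
  rw [cj_one] at g1
  obtain ⟨τ, n, ag⟩ := af_of_mem (hN u _ hu hn g g1 g2)
  obtain rfl : n = 1 := by_contra fun n1 => hn (hK.mem_of_conj g1 ag n1 hu g2)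
  have vL := hK.mem_of_conj (mul_mem (inv_mem g1) he) (ag.inv.mul a) (by simpa) hv g3
  exact hn (hK.mem hu ((hv.mul (a.conj hv)).of (by linear_combination hx) (by simp))
    (mul_mem vL (mul_mem (mul_mem he vL) (inv_mem he))))

omit hK in
theorem w1 (hB : L ≤ B3 σ) (hc : ∀ g α, Af g α 1 → ∃ l, g ∈ cj (h3 σ l) L) :
    ∃ l : Fˣ, l ≠ 1 ∧ h3 σ l ∈ L ∧ l * σ l = (1 : F) := by
  obtain ⟨β, ok⟩ := exists_ok' hκ 1
  have b0 : β ≠ 0 := by rintro rfl; simpa using okE ok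
  have k0 : κ ≠ 0 := by rintro rfl; simp at hκ
  have k1 : σ κ ≠ 0 := by simpa
  have ok' : Ok3 σ (σ κ / κ) β := by
    simp only [Ok3, map_div₀, σσ]; field_simp; simpa using okE ok
  obtain ⟨l1, h1⟩ := hc _ _ (((af_u ok').mul (af_u ok).inv).of rfl (by simp))
  obtain ⟨l2, h2⟩ := hc _ _ (((af_u (ok'.inv b0).1).mul (af_u (ok.inv b0).1).inv).of rfl (by simp))
  obtain ⟨l3, h4⟩ := hc _ _ (((af_u (ok.inv b0).2).inv.mul (af_u (ok'.inv b0).2)).of rfl (by simp))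
  obtain ⟨l, e1, e2, e3⟩ := tri3 h hB ok ok' b0 b0 h1 h2 (l3 := l3) (by rwa [div_self', map_one, mul_one])
  refine ⟨l, ?_, e1, by simpa [b0] using e3⟩
  rintro rfl
  exact hκ (by simpa [eq_div_iff k0, eq_comm] using e2)

omit hK hκ in
theorem w2 (hB : L ≤ B3 σ) (hQ : ∀ g α, Af g α 1 → g ∈ L) {z : Fˣ} (hz : h3 σ z ∈ L) (z1 : z * σ z = (1 : F)) :
    z = 1 := by
  have h2 := CharTwo.two_eq_zero (R := F)
  have ok : Ok3 σ 0 1 := by simp [Ok3, CharTwo.add_self_eq_zero]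
  have ok' : Ok3 σ (1 + z) z := by
    simp only [Ok3, map_add, map_one]; linear_combination z1 + (1 + z + σ z) * h2
  have c : ∀ {g}, g ∈ L → g ∈ cj (h3 σ 1) L := fun h => by rwa [map_one, cj_one]
  obtain ⟨l, -, -, e⟩ := tri3 h hB ok ok' one_ne_zero z.ne_zero
    (c (hQ _ _ (((af_u ok').mul (af_u ok).inv).of rfl (by simp))))
    (c (hQ _ _ (((af_u (ok'.inv z.ne_zero).1).mul (af_u (ok.inv one_ne_zero).1).inv).of rfl (by simp))))
    (c (mul_mem (mul_mem (inv_mem (hQ _ _ (af_u (ok.inv one_ne_zero).2))) (by simpa))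
      (hQ _ _ (af_u (ok'.inv z.ne_zero).2))))
  have : σ z = z := by rw [← e]; simp [mul_comm]
  rw [this] at z1
  exact Units.val_eq_one.1 (sub_eq_zero.1 (pow_eq_zero_iff two_ne_zero |>.1 (by linear_combination z1 + (1 - z) * h2)))

omit hκ in
theorem w3 (hB : ∀ g ∈ L, ∃ α, Af g α 1) (hu : u ∈ L) (a : Af u α 1) (a0 : α ≠ 0) {w : Fˣ}
    (hw : (w : F) ^ 2 / σ w = 1) : w = 1 := by
  by_contra w1
  have h2 := CharTwo.two_eq_zero (R := F)
  have w0 := w.ne_zero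
  have s0 : σ w ≠ 0 := by simp
  have e1 : σ w = w ^ 2 := by field_simp at hw; exact hw.symm
  have e2 : (w : F) ^ 2 + w + 1 = 0 := by
    have := congrArg σ e1
    rw [σσ, map_pow, e1] at this
    exact mul_left_cancel₀ (mul_ne_zero w0 (sub_ne_zero.2 (mt Units.val_eq_one.1 w1))) (by linear_combination -this)
  have a1 : σ α ≠ 0 := by simpa
  have ok1 : Ok3 σ α (α * σ α * w) := by
    simp only [Ok3, map_mul, σσ, e1]; linear_combination α * σ α * e2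
  have ok2 : Ok3 σ 0 (α * σ α)⁻¹ := by simp [Ok3, mul_comm, CharTwo.add_self_eq_zero]
  have ok3 : Ok3 σ (w ^ 2 * α) (α * σ α * w) := by
    simp only [Ok3, map_mul, map_pow, σσ, e1]; linear_combination α * σ α * (w ^ 4 - w ^ 3 + w) * e2
  have hX := hK.mem (af_u ok1) a hu
  have hW : h3 σ (w ^ 2) ∈ L := hK _ ((af_h _).of rfl (by
    simp only [Units.val_pow_eq_pow_val, map_pow]; rw [← div_pow, hw, one_pow]))
  have key : u3 σ α (α * σ α * w) * (t3 σ * u3 σ 0 (α * σ α)⁻¹ * t3 σ) *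
      (u3 σ (w ^ 2 * α) (α * σ α * w) * h3 σ (Units.mk0 _ (mul_ne_zero a0 a1)) * t3 σ) =
      u3 σ (w ^ 2 * α) (α * σ α * w) * h3 σ (Units.mk0 _ (mul_ne_zero a0 a1)) * t3 σ *
        (h3 σ (w ^ 2) * u3 σ α (α * σ α * w)) := UG_ext (by
    simp only [UG_mul, u3_val ok1, u3_val ok2, u3_val ok3, t3_val, h3_val, mul_fin_three]
    apply mat3_ext <;> simp [e1] <;> field_simp <;> grind)
  obtain ⟨g, g1, g2, g3⟩ := h.tri (x := t3 σ) (y := 1) (a := t3 σ * u3 σ 0 (α * σ α)⁻¹ * t3 σ)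
    (z := u3 σ (w ^ 2 * α) (α * σ α * w) * h3 σ (Units.mk0 _ (mul_ne_zero a0 a1)) * t3 σ)
    (b := (u3 σ α (α * σ α * w))⁻¹) (by simpa only [t3_inv] using conj_mem_cj (x := t3 σ).2 (hK _ (af_u ok2)))
    (by rw [cj_one]; exact inv_mem hX) (by
      rw [inv_inv, mem_cj, mul_assoc, key, inv_mul_cancel_left]; exact mul_mem hW hX)
  rw [cj_one] at g2
  have B : L ≤ B3 σ := fun g hg => (hB g hg).choose_spec.memB
  obtain ⟨τ, β, l, ok, e, rfl⟩ := hB g g2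
  have hc : ∀ c, h3 σ l ∈ cj c L := fun c => mem_cj.2 (by
    rw [h3_central e.symm, inv_mul_cancel_right]; exact hK _ ((af_h l).of rfl e.symm))
  obtain ⟨rfl, rfl⟩ := tut_mem ok (by simpa [t3_inv] using B (mem_cj.1 ((mul_mem_cancel_right (hc _)).1 g1)))
  rw [u3_zero, one_mul, mul_mem_cancel_left (inv_mem (hc _)), mem_cj, mul_assoc] at g3
  obtain ⟨c, hc⟩ := col_iff.1 (B g3)
  have c1 := hc 1
  have c2 := hc 2
  simp only [UG_mul, u3_val ok2, u3_val ok3, t3_val, h3_val, mul_fin_three] at c1 c2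
  simp [a0, a1] at c1 c2
  simp [c1, a0, a1] at c2

omit h hK hκ in
theorem lam_surj (hl : ∀ l : Fˣ, (l : F) ^ 2 / σ l = 1 → l = 1) (a0 : α ≠ 0) (a1 : α' ≠ 0) :
    ∃ l : Fˣ, l ^ 2 / σ l * α = α' := by
  obtain ⟨l, e⟩ := Finite.surjective_of_injective (f := fun l : Fˣ => l ^ 2 * ci σ l) (fun x y e =>
    mul_inv_eq_one.1 (hl _ (by
      have := congrArg Units.val e
      have := y.ne_zero
      have : σ x ≠ 0 := by simp
      have : σ y ≠ 0 := by simp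
      simp at *; field_simp at *; assumption))) (Units.mk0 _ (div_ne_zero a1 a0))
  exact ⟨l, by rw [← eq_div_iff a0, div_eq_mul_inv]; simpa using congrArg Units.val e⟩

theorem u3_borel (hB : L ≤ B3 σ) (hg : g ∈ L) : Af g 0 1 := by
  have QL : ∀ {e α m}, e ∈ L → Af e α m → m ≠ 1 → ∀ u α, Af u α 1 → u ∈ L := fun he a h1 u α hu =>
    Q_le h hK hκ (fun _ _ _ _ g hg _ => hB hg) he a h1 hu
  obtain ⟨α, m, a⟩ := af_of_mem (hB hg)
  by_contra hn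
  obtain ⟨u, uL, α0, a0, au⟩ : ∃ u ∈ L, ∃ α0 ≠ 0, Af u α0 1 := by
    by_cases h1 : m = 1
    · exact ⟨g, hg, α, fun e => hn (a.of e h1), a.of rfl h1⟩
    · obtain ⟨β, ok⟩ := exists_ok' hκ 1
      exact ⟨_, QL hg a h1 _ _ (af_u ok), 1, one_ne_zero, af_u ok⟩
  have key : ∀ z : Fˣ, h3 σ z ∈ L → z * σ z = (1 : F) → z = 1 := fun z hz z1 => by
    by_cases hQ : ∀ u α, Af u α 1 → u ∈ L
    · exact w2 h hB hQ hz z1
    have m1 : ∀ {e α m}, e ∈ L → Af e α m → m = 1 := fun he a => by_contra fun h1 => hQ (QL he a h1)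
    refine w3 h hK (fun g hg => ?_) uL au a0 (m1 hz (af_h z))
    obtain ⟨α, m, a⟩ := af_of_mem (hB hg)
    exact ⟨α, a.of rfl (m1 hg a)⟩
  obtain ⟨l, l1, l2, l3⟩ := w1 h hκ hB fun g α a => by
    by_cases e : α = 0
    · exact ⟨1, by rw [map_one, cj_one]; exact hK _ (a.of e rfl)⟩
    obtain ⟨l, hl⟩ := lam_surj (σ := σ) (fun l hl => key l (hK _ ((af_h l).of rfl hl)) (by
      have := congrArg (fun g : UG σ 3 => g.1.1 0 2) (h3_central hl (t3 σ))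
      simp [UG_mul, t3_val, h3_val] at this
      exact (eq_mul_inv_iff_mul_eq₀ (by simp)).1 (by rw [one_mul, this]))) e a0
    refine ⟨l⁻¹, mem_cj.2 (hK.mem ?_ au uL)⟩
    simpa [hl] using (af_h l).conj a
  exact l1 (key l l2 l3)

omit h hK hκ in
theorem iso_col (g : UG σ 3) : g.1.1 0 0 * σ (g.1.1 2 0) + g.1.1 1 0 * σ (g.1.1 1 0) + g.1.1 2 0 * σ (g.1.1 0 0) = 0 := by
  simpa [Fin.sum_univ_three, Fin.rev] using mem_UG.1 g.2 0 0

omit h hK hκ in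
theorem bruhat (hg : g ∉ B3 σ) : ∃ β, Ok3 σ (σ (g.1.1 1 0 / g.1.1 2 0)) β ∧
    (u3 σ (σ (g.1.1 1 0 / g.1.1 2 0)) β * t3 σ)⁻¹ * g ∈ B3 σ := by
  have e := iso_col g
  have h : g.1.1 2 0 ≠ 0 := fun h => hg (mem_B3'.2 ⟨by simpa [h] using e, h⟩)
  have h' : σ (g.1.1 2 0) ≠ 0 := by simpa
  have ok : Ok3 σ (σ (g.1.1 1 0 / g.1.1 2 0)) (g.1.1 0 0 / g.1.1 2 0) := by
    simp [Ok3]; field_simp; linear_combination e
  refine ⟨_, ok, col_iff.2 ⟨g.1.1 2 0, fun i => ?_⟩⟩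
  rw [UG_mul, u3_val ok, t3_val, mul_fin_three]
  fin_cases i <;> simp [CharTwo.neg_eq] <;> field_simp

omit h hκ in
theorem all_conj (ht : t3 σ ∈ L) (hh : ∀ l : Fˣ, σ l = l → h3 σ l ∈ L) (hg : g ∈ L) (h1 : g.1.1 1 0 ≠ 0) :
    Ker (cj g' L) := by
  have h2 := CharTwo.two_eq_zero (R := F)
  have dB : ∀ {g g'}, Ker (cj g⁻¹ L) → g⁻¹ * g' ∈ B3 σ → Ker (cj g'⁻¹ L) := fun {g g'} h hb => by
    simpa [cj_cj] using h.cj (inv_mem hb)
  have dL : ∀ {k g}, k ∈ L → Ker (cj g⁻¹ L) → Ker (cj (k * g)⁻¹ L) := fun {k g} hk h => by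
    rwa [_root_.mul_inv_rev, ← cj_cj, cj_eq_iff.2 (le_normalizer (inv_mem hk))]
  let D : F → F → Prop := fun x y => ∃ (g : UG σ 3) (c : F), Ker (cj g⁻¹ L) ∧ c ≠ 0 ∧ g.1.1 0 0 = c * x ∧ g.1.1 1 0 = c ∧
    g.1.1 2 0 = c * y
  have ok : ∀ {γ}, σ γ = γ → Ok3 σ 0 γ := fun e => by simp [Ok3, e, CharTwo.add_self_eq_zero]
  have m1 : ∀ {x y} γ, σ γ = γ → D x y → D (x + γ * y) y := fun γ e ⟨g, c, k, c0, e0, e1, e2⟩ =>
    ⟨_, c, dL (hK _ (af_u (ok e))) k, c0, by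
      simp [UG_mul, u3_val (ok e), mul_apply, Fin.sum_univ_three, e0, e1, e2]; ring⟩
  have m2 : ∀ {x y}, D x y → D y x := fun ⟨g, c, k, c0, e0, e1, e2⟩ =>
    ⟨_, c, dL ht k, c0, by simp [UG_mul, t3_val, mul_apply, Fin.sum_univ_three, e0, e1, e2, CharTwo.neg_eq]⟩
  have m3 : ∀ {x y} γ, γ ≠ 0 → σ γ = γ → D x y → D (γ⁻¹ * x) (γ * y) := fun γ c0 e ⟨g, c, k, c1, e0, e1, e2⟩ =>
    ⟨_, c, dL (hh (Units.mk0 γ c0)⁻¹ (by simp [e])) k, c1, by
      simp [UG_mul, h3_val, mul_apply, Fin.sum_univ_three, e0, e1, e2, e, c0]; constructor <;> ring⟩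
  have m4 : ∀ {x y x' y'}, D x y → x * σ y + y * σ x = 1 → x' * σ y' + y' * σ x' = 1 → x * σ y' + y' * σ x ≠ 0 →
      D x' y' := fun {x y x' y'} d e e' b0 => by
    generalize hb : x * σ y' + y' * σ x = b at b0
    have sb : σ b = b := by rw [← hb]; simp; ring
    have d1 := m2 (m1 (b * (y * σ y' + y' * σ y)) (by simp only [map_mul, map_add, σσ, sb]; ring) (m2 (m3 b b0 sb d)))
    have d2 := m1 (b⁻¹ * (x * σ x' + x' * σ x)) (by simp only [map_mul, map_add, map_inv₀, σσ, sb]; ring) d1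
    have e1 : b * y + b * (y * σ y' + y' * σ y) * (b⁻¹ * x) = y' := by
      field_simp; linear_combination y' * e - y * hb + (x * y * σ y') * h2
    rw [e1] at d2
    convert d2 using 1
    field_simp
    linear_combination -x * e' - x' * hb + (x * x' * σ y' - x) * h2
  have nm : ∀ g : UG σ 3, g.1.1 1 0 ≠ 0 → g.1.1 0 0 / g.1.1 1 0 * σ (g.1.1 2 0 / g.1.1 1 0) +
      g.1.1 2 0 / g.1.1 1 0 * σ (g.1.1 0 0 / g.1.1 1 0) = 1 := fun g h => by
    have : σ (g.1.1 1 0) ≠ 0 := by simpa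
    simp only [map_div₀]; field_simp; linear_combination iso_col g - g.1.1 1 0 * σ (g.1.1 1 0) * h2
  have d0 : D (g.1.1 0 0 / g.1.1 1 0) (g.1.1 2 0 / g.1.1 1 0) :=
    ⟨g, _, by rwa [cj_eq_iff.2 (le_normalizer (inv_mem hg))], h1, by field_simp, rfl, by field_simp⟩
  have e0 := nm g h1
  generalize g.1.1 0 0 / g.1.1 1 0 = x, g.1.1 2 0 / g.1.1 1 0 = y at d0 e0
  obtain ⟨g, rfl⟩ := inv_surjective g'
  by_cases g1 : g.1.1 1 0 = 0
  · by_cases hB : g ∈ B3 σ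
    · exact hK.cj (inv_mem hB)
    obtain ⟨β, ok, e⟩ := bruhat hB
    simp only [g1, zero_div, map_zero] at ok e
    refine dB ?_ e
    rwa [cj_eq_iff.2 (le_normalizer (inv_mem (mul_mem (hK _ (af_u ok)) ht)))]
  have e1 := nm g g1
  obtain ⟨g0, c, k, c0, k0, k1, k2⟩ : D (g.1.1 0 0 / g.1.1 1 0) (g.1.1 2 0 / g.1.1 1 0) := by
    generalize g.1.1 0 0 / g.1.1 1 0 = x', g.1.1 2 0 / g.1.1 1 0 = y' at e1
    by_cases b0 : x * σ y' + y' * σ x = 0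
    · refine m4 (m2 d0) (by linear_combination e0) e1 fun b1 => ?_
      have : y' = 0 := by linear_combination -y' * e0 + y * b0 + x * b1 - x * y * σ y' * h2
      simp [this] at e1
    · exact m4 d0 e0 e1 b0
  refine dB k (col_iff.2 ⟨g.1.1 1 0 / c, fun i => ?_⟩)
  fin_cases i <;> simp [k0, k1, k2] <;> field_simp

theorem u3_main {η : F} (η0 : η ≠ 0) (η1 : η ≠ 1) (hη : σ η = η) (hL : ∃ c, ¬ Ker (cj c L)) (hg : g ∈ L) :
    Af g 0 1 := by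
  refine u3_borel h hK hκ (fun g hg => by_contra fun hB => ?_) hg
  obtain ⟨β, ok, e⟩ := bruhat hB
  obtain ⟨c, hc⟩ := hL
  have hu := u3_mem (σ := σ) (σ (g.1.1 1 0 / g.1.1 2 0)) β
  generalize u3 σ (σ (g.1.1 1 0 / g.1.1 2 0)) β = u at e hu
  replace h := h.cj u⁻¹
  replace hK := hK.cj (inv_mem hu)
  rw [← cj_cj_inv u L, cj_cj] at hc
  have hg' : u⁻¹ * g * u ∈ cj u⁻¹ L := by simpa using conj_mem_cj (x := u⁻¹).2 hg
  have e' : (t3 σ)⁻¹ * (u⁻¹ * g * u) ∈ B3 σ := by simpa [mul_assoc] using mul_mem e hu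
  generalize cj u⁻¹ L = L, u⁻¹ * g * u = g at *
  have K1 : Ker (cj (t3 σ) L) := by
    have := hK.cj e'
    rwa [← cj_cj, cj_eq_iff.2 (le_normalizer hg'), t3_inv] at this
  have hh : ∀ l : Fˣ, σ l = l → h3 σ l * t3 σ ∈ L := fun l hl => by
    have ok : Ok3 σ 0 (l⁻¹ : Fˣ) := by simp [Ok3, hl, CharTwo.add_self_eq_zero]
    have := mem_cj.1 (K1 _ (af_u ok))
    rw [t3_inv, t3_u ok (Units.ne_zero _), neg_zero, zero_div, zero_div, mul_mem_cancel_right (hK _ (af_u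
      (by simpa using (ok.inv (Units.ne_zero _)).1))), mul_assoc, mul_mem_cancel_left (hK _ (af_u
      (by simpa using (ok.inv (Units.ne_zero _)).1)))] at this
    convert this; ext; simp [hl]
  have ht : t3 σ ∈ L := by simpa using hh 1 (by simp)
  replace hh := fun l hl => (mul_mem_cancel_right ht).1 (hh l hl)
  have h1 : ∀ g ∈ L, g.1.1 1 0 = 0 := fun g hg => by_contra fun e => hc (all_conj hK ht hh hg e)
  obtain ⟨β, ok⟩ := exists_ok' hκ 1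
  have := h1 _ (mul_mem (Q_le h hK hκ (fun u α ⟨β, l, ok, e, eu⟩ hn g g1 g2 => ?_) (hh (Units.mk0 η η0) hη) (af_h _)
    (by simpa [hη, sq, η0]) (af_u ok)) ht)
  · simp [UG_mul, u3_val ok, t3_val, mul_apply, Fin.sum_univ_three] at this
  have a0 : α ≠ 0 := by rintro rfl; exact hn (hK _ ⟨β, l, ok, e, eu⟩)
  have := h1 _ (mem_cj.1 g2)
  rw [show u⁻¹ * g * u = u3 σ (-α) (σ β) * g * u3 σ α β by
    rw [eu, ← u3_inv ok, ← mul_assoc, h3_central e.symm (_ * _ * _)]; group] at this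
  simp [UG_mul, u3_val ok, u3_val ok.neg, mul_apply, Fin.sum_univ_three, vecMul, dotProduct, h1 g g1, a0] at this
  exact mem_B3'.2 ⟨h1 g g1, this⟩

end Cfsg.Agent.Bin
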