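import Cfsg.Agent.Bin.U3
import Cfsg.Agent.SZ.U3

/-! Binary actions of `PSU₃(q)`, `q` even (helper2): centres of Sylow 2-subgroups under `Suz.Hyp` (`hyp_iff`),
transport of centres (`zc_map`), and the classification `psu_iff`. -/

set_option autoImplicit false

namespace Cfsg.Agent.Bin

open Cfsg.Agent.Sz Cfsg.Agent.Suz Cfsg.Agent.Rank1 MulAction Subgroup

variable {G G' Ω : Type*} [Group G] [Group G'] [MulAction G Ω] {a : Ω} {t : G} {Q H : Subgroup G}

theorem mem_zc {g : G} : g ∈ (center H).map H.subtype ↔ g ∈ H ∧ ∀ k ∈ H, k * g = g * k :=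
  ⟨by rintro ⟨z, hz, rfl⟩; exact ⟨z.2, fun k hk => congrArg Subtype.val (mem_center_iff.1 hz ⟨k, hk⟩)⟩,
    fun h => ⟨⟨g, h.1⟩, mem_center_iff.2 fun k => Subtype.ext (h.2 k k.2), rfl⟩⟩

theorem zc_map (e : G ≃* G') (H : Subgroup G) : (center (H.map e.toMonoidHom)).map (H.map e.toMonoidHom).subtype =
    ((center H).map H.subtype).map e.toMonoidHom := by
  ext g
  obtain ⟨g, rfl⟩ := e.surjective g
  rw [mem_zc, mem_map_equiv (K := (center H).map H.subtype), mem_zc]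
  simp only [mem_map_equiv, MulEquiv.symm_apply_apply]
  refine and_congr_right fun _ => ⟨fun h k hk => e.injective ?_, fun h k hk => e.symm.injective ?_⟩
  · simpa using h (e k) (by simpa)
  · simpa using h _ hk

variable [Finite G]

theorem hyp_iff (h : Hyp G Ω a t Q) (two : IsPGroup 2 Q) (nc : ¬ Comm Q) (he : Even (Nat.card H))
    (hsq : Bin G (G ⧸ H) → ∀ g ∈ H, g * g = 1) :
    Bin G (G ⧸ H) ↔ ∃ P : Sylow 2 G, H = (center (P : Subgroup G)).map (P : Subgroup G).subtype := by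
  have hS := h.setup
  obtain ⟨P, hP⟩ := Setup.exists_sylow_le hS
  have e0 : (P : Subgroup G) = Q := (P.is_maximal' two hP).symm
  have e1 : (center Q).map Q.subtype = Q0 Q := Subgroup.ext fun g => mem_zc.trans
    ⟨fun e => (h.higman le_rfl two h.K_conj_Q nc).2.2.1 g e.1 fun x hx => (e.2 x hx).symm,
      fun e => ⟨Q0_le Q e, fun k hk => (h.Q0_comm e hk).symm⟩⟩
  have e2 : ∀ c : G, (center ((c • P : Sylow 2 G) : Subgroup G)).map ((c • P : Sylow 2 G) : Subgroup G).subtype =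
      cj c (Q0 Q) := fun c => by
    rw [← e1, ← e0]; exact zc_map (MulAut.conj c) P
  constructor
  · intro hb
    obtain ⟨s, sH, os⟩ := Invol.exists_invol_mem_of_even he
    obtain ⟨c, hc⟩ := Setup.exists_conj_mem_Q hS (Invol.mul_self_of os)
    have os' := (Invol.orderOf_conj' c s).trans os
    refine ⟨c⁻¹ • P, ?_⟩
    rw [e2, eq_comm, ← cj_inj (x := c), cj_cj_inv]
    refine le_antisymm (fun g hg => (hb.cj c).invol (fun _ _ => Invol.SE.isConj (Setup.se hS)) (conj_mem_cj.2 sH)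
      (Invol.ne_one_of os') (Invol.mul_self_of os') (h.Q0_sq hg) (h.Q0_comm hg hc).symm) ?_
    rintro _ ⟨g, hg, rfl⟩
    have e3 : c * g * c⁻¹ * (c * g * c⁻¹) = 1 := by rw [conj_mul, hsq hb g hg]; simp
    refine mem_Q0_of (Setup.mem_Q_of_mul_self hS (Setup.fixed_of_commute hS os' (Setup.smul_a hS hc) ?_) e3) e3
    exact (Commute.of_orderOf_dvd_two (G := H) (fun x => orderOf_dvd_of_pow_eq_one (Subtype.ext (by
      simpa [sq] using hsq hb x x.2))) ⟨g, hg⟩ ⟨s, sH⟩).map ((MulAut.conj c).toMonoidHom.comp H.subtype)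
  · rintro ⟨P', rfl⟩
    obtain ⟨c, rfl⟩ := exists_smul_eq G P P'
    rw [e2]
    refine Bin.cj (bin_of_ti (fun _ => h.Q0_sq) fun x y u hu v hv u1 v1 e => ?_) c
    have o : ∀ x u, u ∈ cj x (Q0 Q) → u ≠ 1 → orderOf u = 2 ∧ u • x • a = x • a := fun x u hu u1 =>
      ⟨(Invol.orderOf_conj'' x u).symm.trans (orderOf_eq_prime (by rw [sq, h.Q0_sq (mem_cj.1 hu)]) (conj_ne_one u1)), by
        rw [← inv_smul_eq_iff, ← mul_smul, ← mul_smul]; exact Setup.smul_a hS (Q0_le Q (mem_cj.1 hu))⟩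
    have e4 := Setup.fixed_unique hS (o y v hv v1).1 (Setup.fixed_of_commute hS (o x u hu u1).1 (o x u hu u1).2 e.symm)
      (o y v hv v1).2
    rw [← inv_smul_eq_iff, ← mul_smul] at e4
    rw [← cj_inj (x := y⁻¹), cj_cj, cj_inv_cj, cj_eq_iff, mem_normalizer_iff]
    have k : ∀ d : G, d • a = a → ∀ g ∈ Q0 Q, d * g * d⁻¹ ∈ Q0 Q := fun d hd g hg =>
      mem_Q0_of (Setup.conj_mem_Q hS hd (Q0_le Q hg)) (by rw [conj_mul, h.Q0_sq hg]; simp)
    exact fun g => ⟨k _ e4 g, fun hg => by simpa [mul_assoc] using k _ (inv_smul_eq_iff.2 e4.symm) _ hg⟩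

open Cfsg.Agent.Pres hiding cj mem_cj in
theorem psu_sq [IsSimpleGroup G] {F : Type*} [Field F] [Fintype F] [CharP F 2] {q : ℕ} (hF : Fintype.card F = q ^ 2)
    (hq : q ≠ 2) (e : G ≃* PSU 3 F q) (hone : ∀ s t : G, orderOf s = 2 → orderOf t = 2 → IsConj s t) (hH : H ≠ ⊤)
    (he : Even (Nat.card H)) (h : Bin G (G ⧸ H)) {g : G} (hg : g ∈ H) : g * g = 1 := by
  have := Fact.mk hF
  obtain ⟨-, φ, -⟩ := exists_equiv_UG (F := F) (q := q) 3
  obtain ⟨κ, hκ⟩ := Classical.exists_pow_q_ne (F := F) (q := q)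
  obtain ⟨ζ, hζ⟩ := IsCyclic.exists_monoid_generator (α := Fˣ)
  obtain ⟨η, η0, η1, hη, -⟩ := exists_real_gen (σ := Geom.frobq hF) (fun _ => rfl) hζ hq
  change Geom.frobq hF κ ≠ κ at hκ
  have hσ := factFrobqInv (F := F) (q := q)
  generalize Geom.frobq hF = σ at *
  let π : UG σ 3 →* G := e.symm.toMonoidHom.comp ((QuotientGroup.mk' _).comp φ.toMonoidHom)
  have hπ : Function.Surjective π := e.symm.surjective.comp ((QuotientGroup.mk'_surjective _).comp φ.surjective)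
  have k : ∀ x, π x = 1 ↔ ∀ y, y * x = x * y := fun x => by
    simp only [π, MonoidHom.comp_apply, MulEquiv.toMonoidHom_eq_coe, MonoidHom.coe_coe, map_eq_one_iff _ e.symm.injective,
      QuotientGroup.mk'_apply, QuotientGroup.eq_one_iff, mem_center_iff]
    exact ⟨fun h y => φ.injective (by simpa using h (φ y)), fun h y => φ.symm.injective (by simpa using h _)⟩
  have sq : ∀ x, Af x 0 1 → ∃ γ, Ok3 σ 0 γ ∧ π x = π (u3 σ 0 γ) := by
    rintro _ ⟨γ, l, ok, e, rfl⟩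
    exact ⟨γ, ok, by rw [map_mul, (k _).2 (h3_central e.symm), mul_one]⟩
  have uu : ∀ γ, Ok3 σ 0 γ → π (u3 σ 0 γ) * π (u3 σ 0 γ) = 1 := fun γ ok => by
    rw [← map_mul, u3_mul ok ok]; simp [CharTwo.add_self_eq_zero, u3_zero]
  have ok : Ok3 σ 0 1 := by simp [Ok3, CharTwo.add_self_eq_zero]
  have u1 : π (u3 σ 0 1) ≠ 1 := fun e => by
    simpa [UG_mul, u3_val ok, t3_val] using congrArg (fun g : UG σ 3 => g.1.1 0 0) ((k _).1 e (t3 σ))
  obtain ⟨s, sH, os⟩ := Invol.exists_invol_mem_of_even he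
  obtain ⟨c, hc⟩ := isConj_iff.1 (hone _ _ os (orderOf_eq_prime (by rw [pow_two, uu 1 ok]) u1))
  obtain ⟨x, hx⟩ := hπ (c * g * c⁻¹)
  obtain ⟨γ, ok', e'⟩ := sq x (u3_main ((bin_comap_iff π hπ).2 (h.cj c)) (fun y hy => by
      obtain ⟨γ, ok', e'⟩ := sq y hy
      rw [mem_comap, e']
      exact (h.cj c).invol hone (hc ▸ conj_mem_cj.2 sH) u1 (uu 1 ok) (uu γ ok') (by
        rw [← map_mul, ← map_mul, u3_mul ok ok', u3_mul ok' ok, add_comm γ])) hκ η0
    (by rintro rfl; exact η1 (CharTwo.add_self_eq_zero 1)) hη (by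
      by_contra! hn
      rcases (cj c H).normalCore_normal.eq_bot_or_eq_top with e' | e'
      · refine u1 (mem_bot.1 (e' ▸ fun d => ?_))
        obtain ⟨d, rfl⟩ := hπ d
        simpa using mem_comap.1 (mem_cj.1 (hn d⁻¹ _ (af_u ok)))
      · exact hH (cj_eq_top.1 (eq_top_iff.2 (e' ▸ (cj c H).normalCore_le))))
    (by rw [mem_comap, hx]; exact conj_mem_cj.2 hg))
  have := uu γ ok'
  rwa [← e', hx, conj_mul, conj_eq_one_iff] at this

theorem sylow_map (e : G ≃* G') (P : Sylow 2 G) : ∃ P' : Sylow 2 G', (P' : Subgroup G') = P.1.map e.toMonoidHom :=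
  have := Fact.mk Nat.prime_two
  ⟨P.mapSurjective (f := e.toMonoidHom) e.surjective, rfl⟩

omit [Finite G] in
theorem eq_map_symm (e : G ≃* G') {K : Subgroup G'} (h : H.map e.toMonoidHom = K) : H = K.map e.symm.toMonoidHom := by
  ext g; simp [← h]

theorem psu_iff [IsSimpleGroup G] {F : Type*} [Field F] [Fintype F] {n : ℕ} (hn : 2 ≤ n)
    (hF : Fintype.card F = (2 ^ n) ^ 2) (e : G ≃* PSU 3 F (2 ^ n))
    (hone : ∀ s t : G, orderOf s = 2 → orderOf t = 2 → IsConj s t) (hH : H ≠ ⊤) (he : Even (Nat.card H)) :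
    Bin G (G ⧸ H) ↔ ∃ P : Sylow 2 G, H = (center (P : Subgroup G)).map (P : Subgroup G).subtype := by
  have : CharP F 2 := charP_of_card_eq_prime_pow (f := n * 2) (by rw [hF, pow_mul])
  have := Finite.of_equiv _ e.toEquiv
  obtain ⟨t, M, Q, h, h2, nc, -⟩ := psu3_hyp hn hF
  rw [← bin_map_iff e, hyp_iff h h2 nc (by rwa [card_map_of_injective e.injective])]
  · constructor
    · rintro ⟨P, hP⟩
      obtain ⟨P', e'⟩ := sylow_map e.symm P
      exact ⟨P', by rw [e', zc_map, eq_map_symm e hP]⟩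
    · rintro ⟨P, rfl⟩
      obtain ⟨P', e'⟩ := sylow_map e P
      exact ⟨P', by rw [e', zc_map]⟩
  · rintro hb _ ⟨g, hg, rfl⟩
    rw [← map_mul, psu_sq hF (Nat.pow_lt_pow_right one_lt_two hn).ne' e hone hH he ((bin_map_iff e).1 hb) hg, map_one]

end Cfsg.Agent.Bin
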